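import Cfsg.Agent.Lib.Block.StarFixed
import Cfsg.Agent.Lib.Block.AbelianNilpotent
import Cfsg.Agent.Lib.Block.CardPow
import Cfsg.Agent.Lib.Block.Correspondence

/-!
# Blocks with an odd number of characters and an abelian defect group of order eight

With an odd number of characters the linear characters of the defect group that are invariant
under the inertial group act without fixed points, so the inertial group fixes only the identity.
For order eight it is then transitive on the other seven elements, and the block has one more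
character than the simple modules of one major subsection, so at most four when it has one simple
module.
-/

set_option autoImplicit false
set_option linter.unusedSectionVars false
set_option linter.style.haveILetI false
set_option maxHeartbeats 1000000

namespace Cfsg.Lib.Block.Five

open Cfsg Cfsg.Lib.Block

universe u

noncomputable local instance (priority := high) fintypeSubgroupFiveAbelian {A : Type u} [Group A]
    [Fintype A] (H : Subgroup A) : Fintype H := Fintype.ofFinite H

local notation "C[" Q "]" => Subgroup.centralizer (SetLike.coe Q)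

/-- A finite set with an involution without fixed points has even cardinality. -/
theorem even_card_of_involution {α : Type*} [Finite α] (σ : α → α) (h : ∀ a, σ (σ a) = a)
    (hfix : ∀ a, σ a ≠ a) : 2 ∣ Nat.card α := by
  classical
  haveI := Fintype.ofFinite α
  haveI : Fact (Nat.Prime 2) := ⟨Nat.prime_two⟩
  let f : Function.End α := σ
  have hf : f ^ 2 ^ 1 = 1 := by
    rw [pow_one, pow_two]
    exact funext h
  have h1 := Equiv.Perm.card_fixedPoints_modEq (p := 2) (n := 1) hf
  rw [Nat.card_eq_fintype_card]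
  have h0 : Fintype.card f.fixedPoints = 0 := Fintype.card_eq_zero_iff.2 ⟨fun a => hfix a.1 a.2⟩
  rw [h0] at h1
  exact Nat.modEq_zero_iff_dvd.1 h1

variable {M : Ideal AlgInt} [Fact (Nat.Prime 2)] (hM : IsPModular 2 M) {G : Type u} [Group G]
  [Fintype G] {B : Set (IrrCharacter G)} {P : Subgroup G} {c : Set (IrrCharacter C[P])}
  {T : Subgroup G}

include hM in
/-- With an odd number of characters the inertial group fixes only the identity. -/
theorem eq_one_of_fixed_of_odd (hmax : IsMaximalBrauerPair 2 M B P c)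
    (hab : ∀ x ∈ P, ∀ y ∈ P, x * y = y * x)
    (hT : ∀ g : G, g ∈ T ↔ g ∈ Subgroup.normalizer (P : Set G) ∧ StabilizesBlock C[P] c g)
    (hodd : ¬ 2 ∣ Nat.card B) {y : P} (hfix : ∀ t ∈ T, t * (y : G) * t⁻¹ = y) : y = 1 := by
  classical
  letI : CommGroup P :=
    { (inferInstance : Group P) with mul_comm := fun x z => Subtype.ext (hab _ x.2 _ z.2) }
  set N : Subgroup P := Subgroup.closure {z : P | ∃ t ∈ T, ∃ x : P, ∃ h : t * (x : G) * t⁻¹ ∈ P,
      z = (⟨t * (x : G) * t⁻¹, h⟩ : P)⁻¹ * x} with hN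
  refine eq_one_of_fixed_of_mem hM hmax hab hT (N := N) le_rfl ?_ hfix
  by_contra hy
  -- an invariant linear character of order two
  have h2A : 2 ∣ Nat.card ((P ⧸ N) →* ℂˣ) := by
    rw [Char.card_monoidHom_units]
    obtain ⟨n, hn⟩ := IsPGroup.iff_card.1 (hmax.1.1.1.to_quotient N)
    rcases Nat.eq_zero_or_pos n with rfl | hn0
    · rw [pow_zero] at hn
      haveI := (Nat.card_eq_one_iff_unique.1 hn).1
      exact absurd ((QuotientGroup.eq_one_iff y).1 (Subsingleton.elim _ _)) hy
    · exact hn ▸ dvd_pow_self 2 hn0.ne'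
  haveI : Finite ((P ⧸ N) →* ℂˣ) := by
    apply Nat.finite_of_card_ne_zero
    rw [Char.card_monoidHom_units]
    exact Nat.card_pos.ne'
  obtain ⟨φ, hφ⟩ := exists_prime_orderOf_dvd_card' 2 h2A
  have hφ2 : φ * φ = 1 := (pow_two φ).symm.trans (hφ ▸ pow_orderOf_eq_one φ)
  have hfoc : IsFocChar 2 M P c (lamOf φ) := by
    refine isFocChar_of_invariant hM hmax hab hT (fun x hx y hy => ?_) ?_ fun t ht x hx => ?_
    · rw [lamOf_mem φ hx, lamOf_mem φ hy, lamOf_mem φ (mul_mem hx hy), ← Units.val_mul, ← map_mul]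
      rfl
    · rw [lamOf_mem φ (one_mem P), show ((⟨1, one_mem P⟩ : P) : P ⧸ N) = 1 from rfl, map_one,
        Units.val_one]
    · have htx : t * x * t⁻¹ ∈ P := (Subgroup.mem_normalizer_iff.1 ((hT t).1 ht).1 x).1 hx
      rw [lamOf_mem φ htx, lamOf_mem φ hx]
      congr 2
      exact QuotientGroup.eq.2 (Subgroup.subset_closure ⟨t, ht, ⟨x, hx⟩, htx, rfl⟩)
  have hsq : ∀ x ∈ P, lamOf φ x * lamOf φ x = 1 := fun x hx => by
    rw [lamOf_mem φ hx, ← Units.val_mul, ← MonoidHom.mul_apply, hφ2]
    rfl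
  have hmu : IsFocChar 2 M P c fun x => lamOf φ x * lamOf φ x :=
    ⟨fun x hx y hy => by
        show lamOf φ (x * y) * lamOf φ (x * y) =
          lamOf φ x * lamOf φ x * (lamOf φ y * lamOf φ y)
        rw [hfoc.map_mul x hx y hy]; ring,
      by show lamOf φ 1 * lamOf φ 1 = 1; rw [hfoc.map_one, one_mul],
      fun v g b h1 h2 => by
        show lamOf φ (g * v * g⁻¹) * lamOf φ (g * v * g⁻¹) = lamOf φ v * lamOf φ v
        rw [hfoc.fusion v g b h1 h2]⟩
  let σ : B → B := fun χ =>
    ⟨(exists_starIrr hM hmax hfoc χ.2).choose, (exists_starIrr hM hmax hfoc χ.2).choose_spec.1⟩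
  have hσ : ∀ χ : B, (((σ χ : B) : IrrCharacter G) : G → ℂ) =
      starFn hM P c (lamOf φ) (χ : IrrCharacter G) :=
    fun χ => (exists_starIrr hM hmax hfoc χ.2).choose_spec.2
  refine hodd (even_card_of_involution σ (fun χ => ?_) fun χ h => ?_)
  · refine Subtype.ext (Subtype.ext ?_)
    rw [hσ, starFn_comp hM hmax hfoc χ.2 hfoc (hσ χ), starFn_trivial hM hmax hmu χ.2 hsq]
  · have hne : φ ≠ 1 := fun h1 => by rw [h1, orderOf_one] at hφ; norm_num at hφ
    refine hne (MonoidHom.ext fun z => ?_)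
    obtain ⟨z, rfl⟩ := QuotientGroup.mk_surjective z
    have h1 := fixed_center hM hmax hfoc χ.2 (by rw [← hσ, h]) z.2 fun d hd => hab d hd z z.2
    rw [lamOf_mem φ z.2] at h1
    exact Units.ext h1

include hM in
/-- For order eight the inertial group is transitive. -/
theorem transitive_of_odd (hmax : IsMaximalBrauerPair 2 M B P c)
    (hab : ∀ x ∈ P, ∀ y ∈ P, x * y = y * x)
    (hT : ∀ g : G, g ∈ T ↔ g ∈ Subgroup.normalizer (P : Set G) ∧ StabilizesBlock C[P] c g)
    (hodd : ¬ 2 ∣ Nat.card B) (h8 : Nat.card P = 8) :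
    ∀ u ∈ P, u ≠ 1 → ∀ v ∈ P, v ≠ 1 → ∃ t ∈ T, t * u * t⁻¹ = v := by
  classical
  have hTN : T ≤ Subgroup.normalizer (P : Set G) := fun t ht => ((hT t).1 ht).1
  let f : T →* MulAut P := P.normalizerMonoidHom.comp (Subgroup.inclusion hTN)
  have hf : ∀ (t : T) (x : P), ((f t x : P) : G) = (t : G) * x * (t : G)⁻¹ := fun _ _ => rfl
  have hker : f.ker = (C[P]).subgroupOf T := by
    ext g
    rw [MonoidHom.mem_ker, MonoidHom.comp_apply, ← MonoidHom.mem_ker,
      Subgroup.normalizerMonoidHom_ker, Subgroup.mem_subgroupOf, Subgroup.mem_subgroupOf]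
    rfl
  have hR : ¬ 2 ∣ Nat.card f.range := by
    rw [← Subgroup.index_ker, hker]
    have h := not_dvd_relIndex_of_maximal hM hmax hT
    rwa [sup_eq_right.2 (le_centralizer_of_abelian hab le_rfl)] at h
  let O : P → Set P := fun x => MulAction.orbit f.range x
  have hOodd : ∀ x, ¬ 2 ∣ (O x).ncard := fun x h2 => hR (by
    refine h2.trans ?_
    rw [← Nat.card_coe_set_eq,
      Nat.card_congr (MulAction.orbitEquivQuotientStabilizer f.range x)]
    exact Subgroup.index_dvd_card _)
  have hmemO : ∀ {x z : P}, z ∈ O x → ∃ t ∈ T, t * (x : G) * t⁻¹ = z := by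
    rintro x z ⟨⟨_, t, rfl⟩, rfl⟩
    exact ⟨t, t.2, (hf t x).symm⟩
  have hO1 : ∀ x : P, x ≠ 1 → 3 ≤ (O x).ncard := by
    intro x hx
    have h1 : (O x).ncard ≠ 1 := by
      intro h1
      obtain ⟨z, hz⟩ := Set.ncard_eq_one.1 h1
      refine hx (eq_one_of_fixed_of_odd hM hmax hab hT hodd fun t ht => ?_)
      have ha : f ⟨t, ht⟩ x ∈ O x := ⟨⟨f ⟨t, ht⟩, _, rfl⟩, rfl⟩
      have hb : x ∈ O x := MulAction.mem_orbit_self x
      rw [hz, Set.mem_singleton_iff] at ha hb
      exact (hf ⟨t, ht⟩ x).symm.trans (congrArg Subtype.val (ha.trans hb.symm))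
    have h2 := hOodd x
    omega
  have hnot1 : ∀ x : P, x ≠ 1 → (1 : P) ∉ O x := by
    rintro x hx ⟨⟨a, ha⟩, h⟩
    exact hx (a.injective (h.trans (map_one a).symm))
  have hdisj : ∀ x z : P, z ∉ O x → Disjoint (O x) (O z) := by
    intro x z hz
    refine Set.disjoint_left.2 fun w hwx hwz => hz ?_
    rw [show O x = O w from (MulAction.orbit_eq_iff.2 hwx).symm,
      show O w = O z from MulAction.orbit_eq_iff.2 hwz]
    exact MulAction.mem_orbit_self z
  intro u hu hu1 v hv hv1
  by_contra hcon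
  set x : P := ⟨u, hu⟩ with hx
  set z : P := ⟨v, hv⟩ with hz
  have hx1 : x ≠ 1 := fun h => hu1 (congrArg Subtype.val h)
  have hz1 : z ≠ 1 := fun h => hv1 (congrArg Subtype.val h)
  have hzx : z ∉ O x := fun h => hcon (hmemO h)
  have hU : O x ∪ O z ∪ {1} ⊆ Set.univ := Set.subset_univ _
  have c1 : (O x ∪ O z).ncard = (O x).ncard + (O z).ncard := Set.ncard_union_eq (hdisj x z hzx)
  have c2 : (O x ∪ O z ∪ {1}).ncard = (O x).ncard + (O z).ncard + 1 := by
    rw [Set.union_singleton, Set.ncard_insert_of_notMem (by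
      rintro (h | h)
      · exact hnot1 x hx1 h
      · exact hnot1 z hz1 h), c1]
  have hle : (O x ∪ O z ∪ {1}).ncard ≤ 8 := by
    rw [← h8, ← Set.ncard_univ P]
    exact Set.ncard_le_ncard hU
  have a1 := hO1 x hx1
  have a2 := hO1 z hz1
  have b1 := hOodd x
  have b2 := hOodd z
  obtain ⟨w, hw⟩ : ∃ w, w ∉ O x ∪ O z ∪ {1} := by
    by_contra! hall
    have h0 := Set.ncard_le_ncard (fun w _ => hall w : (Set.univ : Set P) ⊆ _)
    rw [Set.ncard_univ, h8] at h0
    omega
  simp only [Set.mem_union, Set.mem_singleton_iff, not_or] at hw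
  have a3 := hO1 w hw.2
  have hd : Disjoint (O x ∪ O z ∪ {1}) (O w) :=
    Set.disjoint_union_left.2 ⟨Set.disjoint_union_left.2 ⟨hdisj x w hw.1.1, hdisj z w hw.1.2⟩,
      Set.disjoint_singleton_left.2 (hnot1 w hw.2)⟩
  have c3 := Set.ncard_union_eq hd
  have hle' : (O x ∪ O z ∪ {1} ∪ O w).ncard ≤ 8 := by
    rw [← h8, ← Set.ncard_univ P]
    exact Set.ncard_le_ncard (Set.subset_univ _)
  omega

include hM in
/-- A block with an odd number of characters, one simple module and an abelian defect group of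
order eight has at most four characters. -/
theorem card_le_four_of_abelian_eight (hB : IsPBlock M B) (hD : IsDefectGroup 2 M B P)
    (hab : ∀ x ∈ P, ∀ y ∈ P, x * y = y * x) (h8 : Nat.card P = 8) (hl : blockRank 2 B = 1)
    (hodd : ¬ 2 ∣ Nat.card B) : Nat.card B ≤ 4 := by
  classical
  obtain ⟨c, hmax⟩ := exists_pair_at_defect hM hB hD
  have hPc := hmax.1.1
  let T : Subgroup G := Subgroup.normalizer (P : Set G) ⊓ invStab (indVec c)
  have hT : ∀ y : G, y ∈ T ↔ y ∈ Subgroup.normalizer (P : Set G) ∧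
      StabilizesBlock C[P] c y := fun y => by
    refine and_congr_right fun hy => ?_
    rw [stabilizesBlock_iff_coeff (mem_normalizer_centralizer hy), ← extF_indVec]
    rfl
  have htrans := transitive_of_odd hM hmax hab hT hodd h8
  obtain ⟨u, hu⟩ := exists_prime_orderOf_dvd_card' 2
    (show 2 ∣ Nat.card P by rw [h8]; norm_num)
  have hu2 : orderOf (u : G) = 2 := by rw [orderOf_submonoid, hu]
  have hu1 : (u : G) ≠ 1 := fun h => by rw [h, orderOf_one] at hu2; norm_num at hu2
  obtain ⟨f, hf, hle⟩ := exists_subpair hM hPc (Subgroup.zpowers_le.2 u.2)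
  -- the subsections
  let r : G → G := fun g => if IsConj g 1 then 1 else if IsConj g (u : G) then (u : G) else
    Quotient.out (s := IsConj.setoid G) (Quotient.mk _ g)
  have hr : ∀ g : G, IsConj g (r g) := fun g => by
    simp only [r]
    split_ifs with h h'
    · exact h
    · exact h'
    · exact (Quotient.mk_out (s := IsConj.setoid G) g).symm
  have hr' : ∀ g h : G, IsConj g h → r g = r h := fun g h hgh => by
    simp only [r]
    have he : IsConj g 1 ↔ IsConj h 1 := ⟨fun h' => hgh.symm.trans h', fun h' => hgh.trans h'⟩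
    have he' : IsConj g (u : G) ↔ IsConj h (u : G) :=
      ⟨fun h' => hgh.symm.trans h', fun h' => hgh.trans h'⟩
    have hq : Quotient.mk (IsConj.setoid G) g = Quotient.mk (IsConj.setoid G) h :=
      Quotient.sound hgh
    rw [hq]
    exact if_congr he rfl (if_congr he' rfl rfl)
  have hr1 : r 1 = 1 := by simp [r]
  have hru : r u = u := by
    have h : ¬ IsConj (u : G) 1 := fun h => hu1 (isConj_one_left.1 h)
    show (if IsConj (u : G) 1 then 1 else if IsConj (u : G) u then (u : G) else _) = u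
    rw [if_neg h, if_pos (IsConj.refl _)]
  set X : Finset G :=
    (Finset.univ.filter fun g : G => ∃ k : ℕ, orderOf g = 2 ^ k).image r with hXdef
  have hXp : ∀ x ∈ X, ∃ k : ℕ, orderOf x = 2 ^ k := fun x hx => by
    obtain ⟨g, hg, rfl⟩ := Finset.mem_image.1 hx
    obtain ⟨k, hk⟩ := (Finset.mem_filter.1 hg).2
    obtain ⟨w, hw⟩ := isConj_iff.1 (hr g)
    exact ⟨k, by rw [← hw, ← hk]; exact (MulAut.conj w).orderOf_eq g⟩
  have hrX : ∀ x ∈ X, r x = x := fun x hx => by
    obtain ⟨g, -, rfl⟩ := Finset.mem_image.1 hx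
    exact (hr' g _ (hr g)).symm
  have hmemX : ∀ g : G, (∃ k : ℕ, orderOf g = 2 ^ k) → r g ∈ X := fun g hg =>
    Finset.mem_image.2 ⟨g, Finset.mem_filter.2 ⟨Finset.mem_univ _, hg⟩, rfl⟩
  have hXrep : ∀ g : G, (∃ k : ℕ, orderOf g = 2 ^ k) → ∃! x, x ∈ X ∧ IsConj g x := fun g hg =>
    ⟨r g, ⟨hmemX g hg, hr g⟩,
      fun x ⟨hx, hgx⟩ => by rw [← hrX x hx]; exact (hr' g x hgx).symm⟩
  let S : ∀ x : G, Set (Set (IrrCharacter C[Subgroup.zpowers x])) := fun x =>
    {b | IsInducedBlock M C[Subgroup.zpowers x] b B}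
  have hbridge : ∀ x : G,
      ∑ᶠ b ∈ {b : Set (IrrCharacter (Subgroup.centralizer ({x} : Set G))) |
          IsInducedBlock M (Subgroup.centralizer ({x} : Set G)) b B}, blockRank 2 b =
        ∑ b ∈ (S x).toFinset, blockRank 2 b := by
    intro x
    rw [← finsum_mem_eq_toFinset_sum]
    suffices ∀ H : Subgroup G, H = C[Subgroup.zpowers x] →
        ∑ᶠ b ∈ {b : Set (IrrCharacter H) | IsInducedBlock M H b B}, blockRank 2 b =
          ∑ᶠ b ∈ S x, blockRank 2 b from this _ (centralizer_singleton_eq x)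
    intro H hH
    subst hH
    rfl
  have hclass : ∀ x ∈ X, x ≠ 1 → ∀ b ∈ S x, x = (u : G) ∧ HEq b f := by
    intro x hxX hx1 b hb
    have hbr := (isBrauerPairOf_zpowers_iff hM hB (hXp x hxX) hb.1).2 hb
    obtain ⟨g, hg⟩ := exists_conj_le_maximal hM hmax hbr
    have hv : g * x * g⁻¹ ∈ P := le_of_rel hg ⟨x, Subgroup.mem_zpowers x, rfl⟩
    obtain ⟨t, ht, htu⟩ := htrans u u.2 hu1 _ hv fun h => hx1 (conj_eq_one_iff.1 h)
    have hxu : x = (u : G) := by
      rw [← hrX x hxX, ← hru]
      refine hr' _ _ (isConj_iff.2 ⟨t⁻¹ * g, ?_⟩)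
      calc t⁻¹ * g * x * (t⁻¹ * g)⁻¹ = t⁻¹ * (g * x * g⁻¹) * t := by group
        _ = (u : G) := by rw [← htu]; group
    subst hxu
    refine ⟨rfl, heq_of_eq ?_⟩
    have hz : t⁻¹ * g ∈ C[Subgroup.zpowers (u : G)] := by
      rw [← centralizer_singleton_eq, Subgroup.mem_centralizer_singleton_iff]
      calc t⁻¹ * g * (u : G) = t⁻¹ * (g * (u : G) * g⁻¹) * g := by group
        _ = (u : G) * (t⁻¹ * g) := by rw [← htu]; group
    have h1 := rel_conjIdx hM t⁻¹ hg
    rw [conjIdx_mul, conjIdx_eq_self_of_mem hz,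
      (conjIdx_eq_self_iff c t⁻¹).2 ((hT _).1 (inv_mem ht))] at h1
    exact subpair_unique hM hPc h1 hle
  have h1X : (1 : G) ∈ X := hr1 ▸ hmemX 1 ⟨0, by simp⟩
  have htot := card_block_eq_sum_rank hM hB X hXp hXrep
  rw [Finset.sum_congr rfl (fun x _ => hbridge x), ← Finset.add_sum_erase _ _ h1X] at htot
  have hone : ∑ b ∈ (S 1).toFinset, blockRank 2 b = blockRank 2 B := by
    rw [← hbridge 1]
    exact_mod_cast (blockRank_indSet hM (H := Subgroup.centralizer ({(1 : G)} : Set G)) B).symm.trans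
      (congrArg (Nat.cast (R := ℂ)) (blockRank_indSet_one hM hB))
  rw [hone, hl] at htot
  have hle1 : ∑ x ∈ X.erase 1, ∑ b ∈ (S x).toFinset, blockRank 2 b ≤ blockRank 2 f := by
    have hsub : ∀ x ∈ X.erase 1, x ≠ (u : G) → ∑ b ∈ (S x).toFinset, blockRank 2 b = 0 :=
      fun x hx hxu => Finset.sum_eq_zero fun b hb => absurd (hclass x (Finset.mem_of_mem_erase hx)
        (Finset.ne_of_mem_erase hx) b (Set.mem_toFinset.1 hb)).1 hxu
    by_cases huX : (u : G) ∈ X.erase 1
    · rw [Finset.sum_eq_single_of_mem _ huX hsub]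
      have hs : (S u).toFinset ⊆ {f} := fun b hb => by
        rw [Finset.mem_singleton]
        exact eq_of_heq (hclass u (Finset.mem_of_mem_erase huX) hu1 b (Set.mem_toFinset.1 hb)).2
      exact (Finset.sum_le_sum_of_subset hs).trans (le_of_eq (Finset.sum_singleton _ _))
    · rw [Finset.sum_eq_zero fun x hx => hsub x hx fun h => huX (h ▸ hx)]
      exact Nat.zero_le _
  -- the major subsection has at most three simple modules
  have hf3 : blockRank 2 f ≤ 3 := by
    have hfD := subpair_defect hM hmax hab hle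
    have hQP : (Subgroup.zpowers (u : G)) ≤ P := Subgroup.zpowers_le.2 u.2
    have hQC : (Subgroup.zpowers (u : G)) ≤ C[Subgroup.zpowers (u : G)] := le_centralizer_of_abelian
      (fun a ha a' ha' => hab a (hQP ha) a' (hQP ha')) le_rfl
    have hPC : P ≤ C[Subgroup.zpowers (u : G)] := le_centralizer_of_abelian hab hQP
    have hfd : blockDefect 2 f = 3 := by
      have h := card_defectGroup hM hf hfD
      rw [Nat.card_congr (Subgroup.subgroupOfEquivOfLe hPC).toEquiv, h8] at h
      exact Nat.pow_right_injective le_rfl (show 2 ^ blockDefect 2 f = 2 ^ 3 by omega)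
    set N : Subgroup C[Subgroup.zpowers (u : G)] := (Subgroup.zpowers (u : G)).subgroupOf C[Subgroup.zpowers (u : G)] with hN
    have hNc : Nat.card N = 2 := by
      rw [hN, Nat.card_congr (Subgroup.subgroupOfEquivOfLe hQC).toEquiv, Nat.card_zpowers, hu2]
    have hNz : N ≤ Subgroup.center C[Subgroup.zpowers (u : G)] := fun x hx => Subgroup.mem_center_iff.2 fun g =>
      Subtype.ext (Subgroup.mem_centralizer_iff.1 g.2 (x : G) hx).symm
    haveI : N.Normal := ⟨fun n hn g => by
      rwa [Subgroup.mem_center_iff.1 (hNz hn) g, mul_inv_cancel_right]⟩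
    haveI := Fintype.ofFinite (C[Subgroup.zpowers (u : G)] ⧸ N)
    obtain ⟨hblk, hdef, -⟩ := quotient_block_data hM N hNc hNz hf hfD
      (Subgroup.comap_mono hQP)
    have h4 := card_block_le_pow hM (blockDefect 2 (deflSet N f)) (deflSet N f) hblk rfl
    rw [hfd] at hdef
    rw [show blockDefect 2 (deflSet N f) = 2 by omega, if_pos le_rfl] at h4
    have hreg : ∀ g : C[Subgroup.zpowers (u : G)], g ∈ Subgroup.centralizer (N : Set C[Subgroup.zpowers (u : G)]) := fun g =>
      Subgroup.mem_centralizer_iff.2 fun x hx => (Subgroup.mem_center_iff.1 (hNz hx) g).symm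
    have hrk := blockRank_deflSet hM N (IsPGroup.of_card (n := 1) (by rw [hNc, pow_one]))
      (fun g _ => hreg g) hf
    have hlt : blockRank 2 (deflSet N f) < Nat.card (deflSet N f) :=
      lt_of_le_of_ne (blockRank_le_card _) fun h => by
        have := blockDefect_eq_zero_of_rank_eq_card hM hblk h
        omega
    omega
  omega

end Cfsg.Lib.Block.Five
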