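import Cfsg.Agent.Lib.Block.FiveChars.Quadratic

/-!
# Cyclic trilinear forms through a product on two dimensions

If the antisymmetric part of a bilinear product on `k²` is the determinant in the first coordinate
and the pairs `(u, v)` with `u c · μ a b = v a · μ b c` form a space of dimension at least two, two
independent vectors have square zero.
-/

set_option autoImplicit false
set_option linter.unusedSectionVars false
set_option maxHeartbeats 1000000

namespace Cfsg.Lib.Block.Five

open Module Matrix

variable {k : Type*} [Field k]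

/-- The determinant of two plane vectors. -/
def det₂ (a b : Fin 2 → k) : k := a 0 * b 1 - a 1 * b 0

theorem eq_combination {x y : Fin 2 → k} (hD : det₂ x y ≠ 0) (a : Fin 2 → k) :
    a = (det₂ a y / det₂ x y) • x + (det₂ x a / det₂ x y) • y := by
  funext i
  simp only [Pi.add_apply, Pi.smul_apply, smul_eq_mul, div_mul_eq_mul_div, ← add_div]
  rw [eq_div_iff hD]
  fin_cases i <;> simp [det₂] <;> ring

theorem exists_det_ne_zero {x : Fin 2 → k} (hx : x ≠ 0) : ∃ y, det₂ x y ≠ 0 := by
  by_contra! hc
  refine hx (funext fun i => ?_)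
  have h0 := hc ![0, 1]
  have h1 := hc ![1, 0]
  simp [det₂] at h0 h1
  fin_cases i <;> simp [h0, h1]

theorem exists_root [IsAlgClosed k] (B : (Fin 2 → k) →ₗ[k] (Fin 2 → k) →ₗ[k] k) :
    ∃ x : Fin 2 → k, x ≠ 0 ∧ B x x = 0 := by
  open Polynomial in
  set e : Fin 2 → k := ![1, 0] with he
  set e' : Fin 2 → k := ![0, 1] with he'
  by_cases h0 : B e e = 0
  · exact ⟨e, fun h => one_ne_zero (congrFun h 0), h0⟩
  set P : k[X] := Polynomial.C (B e e) * X ^ 2 + Polynomial.C (B e e' + B e' e) * X +
    Polynomial.C (B e' e') with hP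
  have hdeg : P.degree = 2 := Polynomial.degree_quadratic h0
  obtain ⟨s, hs⟩ := IsAlgClosed.exists_root P (by rw [hdeg]; norm_num)
  refine ⟨s • e + e', fun h => one_ne_zero (α := k) ?_, ?_⟩
  · simpa [he, he'] using congrFun h 1
  · simp only [map_add, map_smul, LinearMap.add_apply, LinearMap.smul_apply, smul_eq_mul]
    simp [hP, Polynomial.IsRoot] at hs
    linear_combination hs

variable {μ : (Fin 2 → k) →ₗ[k] (Fin 2 → k) →ₗ[k] (Fin 2 → k)}
  {S : Submodule k (((Fin 2 → k) →ₗ[k] (Fin 2 → k)) × ((Fin 2 → k) →ₗ[k] (Fin 2 → k)))}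

/-- Two independent vectors with square zero. -/
theorem exists_two_null [IsAlgClosed k] (hμ : ∀ a b, μ a b - μ b a = ![det₂ a b, 0])
    (hspan : ∃ a b, μ a b 1 ≠ 0)
    (hS : ∀ p ∈ S, ∀ a b c, p.1 c ⬝ᵥ μ a b = p.2 a ⬝ᵥ μ b c)
    (hinj : ∀ p ∈ S, p.1 = p.2 → p = 0) (hbig : 2 ≤ finrank k S) :
    ∃ x y, det₂ x y ≠ 0 ∧ μ x x = 0 ∧ μ y y = 0 := by
  have : Infinite k := IsAlgClosed.instInfinite
  let B : Fin 2 → (Fin 2 → k) →ₗ[k] (Fin 2 → k) →ₗ[k] k :=
    fun i => μ.compr₂ (LinearMap.proj i)
  have hB : ∀ i a b, B i a b = μ a b i := fun i a b => rfl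
  -- the squares lie on a line
  obtain ⟨φ, Q, hq, hQ⟩ : ∃ (φ : Fin 2 → k) (Q : (Fin 2 → k) →ₗ[k] (Fin 2 → k) →ₗ[k] k),
      (∀ a, μ a a = Q a a • φ) ∧ φ ≠ 0 := by
    by_cases hdep : ∃ α β : k, (α ≠ 0 ∨ β ≠ 0) ∧ ∀ a, α * B 0 a a + β * B 1 a a = 0
    · obtain ⟨α, β, hne, h⟩ := hdep
      rcases eq_or_ne β 0 with rfl | hβ
      · have hα : α ≠ 0 := hne.resolve_right (not_not.2 rfl)
        refine ⟨![0, 1], B 1, fun a => funext fun i => ?_, fun h => by
          simpa using congrFun h 1⟩
        have := h a
        simp [hB, hα] at this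
        fin_cases i <;> simp [hB, this]
      · refine ⟨![1, -(α / β)], B 0, fun a => funext fun i => ?_, fun h => by
          simpa using congrFun h 0⟩
        have := h a
        simp only [hB] at this
        fin_cases i
        · simp [hB]
        · simp [hB]
          field_simp
          linear_combination this
    push Not at hdep
    exfalso
    have hind : ∀ α β : k, (∀ a, α * B 0 a a + β * B 1 a a = 0) → α = 0 ∧ β = 0 := by
      intro α β h
      by_contra hne
      obtain ⟨a, ha⟩ := hdep α β (by tauto)
      exact ha (h a)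
    let L : Fin 2 → S → (Fin 2 → k) →ₗ[k] k := fun i p =>
      (LinearMap.proj i).comp (p.1.1 - p.1.2)
    let F : S →ₗ[k] ((Fin 2 → k) →ₗ[k] k) × ((Fin 2 → k) →ₗ[k] k) :=
      { toFun := fun p => (L 0 p, L 1 p)
        map_add' := fun p q => Prod.ext (LinearMap.ext fun x => by simp [L]; ring)
          (LinearMap.ext fun x => by simp [L]; ring)
        map_smul' := fun r p => Prod.ext (LinearMap.ext fun x => by simp [L]; ring)
          (LinearMap.ext fun x => by simp [L]; ring) }
    have hF : Function.Injective F := by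
      rw [injective_iff_map_eq_zero]
      intro p hp
      refine Subtype.ext (hinj _ p.2 (LinearMap.ext fun x => funext fun i => ?_))
      have h0 := LinearMap.congr_fun (congrArg Prod.fst hp) x
      have h1 := LinearMap.congr_fun (congrArg Prod.snd hp) x
      simp [F, L, sub_eq_zero] at h0 h1
      fin_cases i
      · exact h0
      · exact h1
    have h1 : finrank k (LinearMap.range F) ≤ 1 := by
      refine finrank_syzygy_le_one (B 0) (B 1) hind _ ?_
      rintro _ ⟨p, rfl⟩ a
      have h2 := tri_diag (hS p.1 p.2) a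
      simp only [dotProduct, Fin.sum_univ_two, Pi.sub_apply] at h2
      simpa [F, L, hB] using h2
    rw [LinearMap.finrank_range_of_inj hF] at h1
    omega
  -- a root
  obtain ⟨x, hx0, hxQ⟩ := exists_root Q
  obtain ⟨y, hD⟩ := exists_det_ne_zero hx0
  have hxx : μ x x = 0 := by rw [hq, hxQ, zero_smul]
  set γ := Q x y + Q y x with hγ
  have hpol : μ x y + μ y x = γ • φ := by
    have h1 := hq (x + y)
    simp only [map_add, LinearMap.add_apply, hxx, hq y, hxQ] at h1
    rw [hγ]
    linear_combination (norm := module) h1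
  by_cases hγ0 : γ = 0
  · rw [hγ0, zero_smul] at hpol
    exfalso
    set D := det₂ x y with hDdef
    have hsub := hμ x y
    rw [eq_neg_of_add_eq_zero_right hpol, sub_neg_eq_add] at hsub
    have e0 : 2 * μ x y 0 = D := by
      have := congrFun hsub 0
      simp at this
      linear_combination this
    have e1 : μ x y 1 + μ x y 1 = 0 := by
      simpa using congrFun hsub 1
    have h2 : (2 : k) ≠ 0 := fun h => hD (by rw [← e0, h, zero_mul])
    have e1' : μ x y 1 = 0 := by
      refine (mul_eq_zero.1 (show (2 : k) * μ x y 1 = 0 by linear_combination e1)).resolve_left h2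
    have hyx : ∀ i, μ y x i = -μ x y i := fun i => by
      rw [eq_neg_of_add_eq_zero_right hpol, Pi.neg_apply]
    have hyy : μ y y 1 ≠ 0 := by
      intro h0
      obtain ⟨a, b, hab⟩ := hspan
      refine hab ?_
      rw [eq_combination hD a, eq_combination hD b]
      simp [hxx, hyx, e1', h0]
    -- one parameter remains
    have key : ∀ p : S, (p.1.1 y) 0 = 0 → p = 0 := by
      intro p hr
      have h := hS p.1 p.2
      have hxy0 : μ x y 0 ≠ 0 := fun h0 => hD (by rw [← e0, h0, mul_zero])
      have a1 := h x x y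
      have a2 := h y x x
      have a3 := h x y y
      have a4 := h y y x
      have a5 := h y y y
      simp only [dotProduct, Fin.sum_univ_two, hxx, Pi.zero_apply, hyx, e1', mul_zero,
        add_zero, neg_zero] at a1 a2 a3 a4 a5
      rw [hr] at a3 a5
      have vx0 : p.1.2 x 0 = 0 := (mul_eq_zero.1 a1.symm).resolve_right hxy0
      have ux0 : p.1.1 x 0 = 0 := by
        have h' : p.1.1 x 0 * μ x y 0 = 0 := by linear_combination -a2
        exact (mul_eq_zero.1 h').resolve_right hxy0
      rw [vx0] at a3
      have vx1 : p.1.2 x 1 = 0 := by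
        have h' : p.1.2 x 1 * μ y y 1 = 0 := by linear_combination -a3
        exact (mul_eq_zero.1 h').resolve_right hyy
      have d0 : ∀ i, p.1.1 x i - p.1.2 x i = 0 ∧ p.1.1 y i - p.1.2 y i = 0 := by
        have hdy := tri_star h y x
        simp only [dotProduct, Fin.sum_univ_two, Pi.sub_apply, Pi.add_apply, hyx, e1',
          neg_zero, sub_self, mul_zero, add_zero] at hdy
        rw [ux0, vx0, vx1, hr] at hdy
        have hflat : ∀ b, (p.1.1 b - p.1.2 b) ⬝ᵥ φ = 0 := by
          intro b
          let l : (Fin 2 → k) →ₗ[k] k :=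
            { toFun := fun z => (p.1.1 z - p.1.2 z) ⬝ᵥ φ
              map_add' := fun z w => by simp [dotProduct, Fin.sum_univ_two]; ring
              map_smul' := fun r z => by simp [dotProduct, Fin.sum_univ_two]; ring }
          refine ((lin_eq_zero_or l Q fun z => ?_).elim (fun h0 => LinearMap.congr_fun h0 b)
            fun h0 => absurd (congrFun (hq y) 1) (by simp [h0 y, hyy]))
          have := tri_diag h z
          rw [hq z, dotProduct_smul, smul_eq_mul] at this
          show (p.1.1 z - p.1.2 z) ⬝ᵥ φ * Q z z = 0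
          linear_combination this
        have hyq : ∀ b, (p.1.1 b - p.1.2 b) ⬝ᵥ μ y y = 0 := fun b => by
          rw [hq y, dotProduct_smul, hflat b, smul_zero]
        have hst := tri_star h y x
        rw [hyq x] at hst
        simp only [dotProduct, Fin.sum_univ_two, Pi.sub_apply, Pi.add_apply, hyx, e1',
          neg_zero, sub_self, mul_zero, add_zero] at hst
        rw [hr] at hst
        have vy0 : p.1.2 y 0 = 0 := by
          have h' : p.1.2 y 0 * D = 0 := by linear_combination hst - p.1.2 y 0 * e0
          exact (mul_eq_zero.1 h').resolve_right hD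
        have hy1 := hyq y
        have hx1 := hyq x
        simp only [dotProduct, Fin.sum_univ_two, Pi.sub_apply, hr, vy0, ux0, vx0, vx1] at hy1 hx1
        have ux1 : p.1.1 x 1 = 0 := by
          have h' : p.1.1 x 1 * μ y y 1 = 0 := by linear_combination hx1
          exact (mul_eq_zero.1 h').resolve_right hyy
        have dy1 : p.1.1 y 1 - p.1.2 y 1 = 0 := by
          have h' : (p.1.1 y 1 - p.1.2 y 1) * μ y y 1 = 0 := by linear_combination hy1
          exact (mul_eq_zero.1 h').resolve_right hyy
        intro i
        fin_cases i <;> simp [ux0, vx0, ux1, vx1, hr, vy0, dy1]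
      refine Subtype.ext (hinj _ p.2 (LinearMap.ext fun a => funext fun i => ?_))
      rw [eq_combination hD a]
      simp [sub_eq_zero.1 (d0 i).1, sub_eq_zero.1 (d0 i).2]
    let f : S →ₗ[k] k :=
      { toFun := fun p => p.1.1 y 0
        map_add' := fun p q => by simp
        map_smul' := fun r p => by simp }
    have hf : Function.Injective f := fun p q h => sub_eq_zero.1 (key (p - q) (by
      have h' : p.1.1 y 0 = q.1.1 y 0 := h
      simp [h']))
    have := LinearMap.finrank_le_finrank_of_injective hf
    rw [Module.finrank_self] at this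
    omega
  · refine ⟨x, y + (-(Q y y) / γ) • x, ?_, hxx, ?_⟩
    · have e : det₂ x (y + (-(Q y y) / γ) • x) = det₂ x y := by simp [det₂]; ring
      rwa [e]
    · simp only [map_add, map_smul, LinearMap.add_apply, LinearMap.smul_apply, hxx, smul_zero,
        add_zero, hq y]
      have h3 : (-(Q y y) / γ) * γ + Q y y = 0 := by field_simp; ring
      have h4 : (0 : Fin 2 → k) = ((-(Q y y) / γ) * γ + Q y y) • φ := by rw [h3, zero_smul]
      rw [h4, add_smul, mul_smul, ← hpol]
      module

end Cfsg.Lib.Block.Five
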