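import Cfsg.Agent.Lib.Block.FiveChars.Forms
import Cfsg.Agent.Lib.Block.FiveChars.Binary

/-!
# Two generators

A local symmetric algebra with two generators whose square modulo the cube is the plane spanned by
their commutator and one more element has Loewy length at most five.
-/

set_option autoImplicit false
set_option linter.unusedSectionVars false
set_option maxHeartbeats 1000000

namespace Cfsg.Lib.Block.Five

open Cfsg Module Matrix

variable {k : Type*} [Field k] {R : Type*} [Ring R] [Algebra k R]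

theorem comm_genMap_two (x : Fin 2 → R) (a b : Fin 2 → k) :
    genMap x a * genMap x b - genMap x b * genMap x a = det₂ a b • (x 0 * x 1 - x 1 * x 0) := by
  simp [genMap, Fintype.linearCombination_apply, Fin.sum_univ_two, det₂, add_mul, mul_add,
    smul_sub, sub_smul, smul_smul]
  module

variable [FiniteDimensional k R] {t : R →ₗ[k] k} {J : Submodule k R} {L : ℕ}

/-- A power which is a line modulo the next gives a pairing of rank at most one. -/
theorem SymLocal.rankOne_of_line (h : SymLocal t J L) {i j : ℕ} (hij : i + j = L) {e : R}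
    (hle : J ^ i ≤ (k ∙ e) ⊔ J ^ (i + 1)) : RankOne t (J ^ j) (J ^ i) := by
  refine ⟨fun w => t (w * e), fun y hy => ?_⟩
  obtain ⟨u, hu, r, hr, rfl⟩ := Submodule.mem_sup.1 (hle hy)
  obtain ⟨s, rfl⟩ := Submodule.mem_span_singleton.1 hu
  refine ⟨s, fun w hw => ?_⟩
  rw [mul_add, map_add, mul_smul_comm, map_smul, h.t_eq_zero (mul_mem_pow hw hr) (by omega),
    add_zero, smul_eq_mul]

/-- Two generators with a plane of squares. -/
theorem not_two_gen [IsAlgClosed k] (h : SymLocal t J L) (hL : 5 ≤ L) (x : Fin 2 → R)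
    (hx : ∀ i, x i ∈ J) (hgen : J ≤ Submodule.span k (Set.range x) ⊔ J ^ 2) (w : R) (hw : w ∈ J ^ 2)
    (hind : ∀ α : Fin 2 → k, (∑ i, α i • ![x 0 * x 1 - x 1 * x 0, w] i) ∈ J ^ 3 → α = 0)
    (hJ2 : J ^ 2 ≤ Submodule.span k (Set.range ![x 0 * x 1 - x 1 * x 0, w]) ⊔ J ^ 3)
    (h3 : J ^ 3 ≤ commSpan J ⊔ J ^ L) : False := by
  obtain ⟨q, rfl⟩ : ∃ q, L = q + 5 := ⟨L - 5, by omega⟩
  set c := ![x 0 * x 1 - x 1 * x 0, w] with hc
  have hc2 : ∀ i, c i ∈ J ^ 2 := by
    intro i
    fin_cases i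
    · show x 0 * x 1 - x 1 * x 0 ∈ J ^ 2
      rw [pow_two]
      exact sub_mem (Submodule.mul_mem_mul (hx 0) (hx 1)) (Submodule.mul_mem_mul (hx 1) (hx 0))
    · exact hw
  obtain ⟨π, hπ, hπ0⟩ := exists_coord (J ^ 3) hind
  have hcomm : ∀ i j, x i * x j - x j * x i ∈ (k ∙ c 0) := by
    intro i j
    have e : ∀ i, x i = genMap x (Pi.single i (1 : k)) := fun i => by
      simp [genMap, Fintype.linearCombination_apply_single]
    rw [e i, e j, comm_genMap_two]
    exact Submodule.smul_mem _ _ (Submodule.mem_span_singleton_self _)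
  have F : Frame t J (q + 5) x c π := by
    refine ⟨h, by omega, hx, hc2, hgen, hJ2, hπ, hπ0, h3, fun κ hκ hκ3 => ?_⟩
    obtain ⟨u, hu, v, hv, rfl⟩ := Submodule.mem_sup.1 (h.commSpan_le hx hgen hcomm hκ)
    obtain ⟨α, rfl⟩ := Submodule.mem_span_singleton.1 hu
    have hα : α = 0 := by
      have := congrFun (hind ![α, 0] (by
        simpa [Fin.sum_univ_two] using (Submodule.add_mem_iff_left _ (h.commTwo_le hv)).1 hκ3)) 0
      simpa using this
    simpa [hα] using hv
  -- no pairing has rank one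
  have notOne : ∀ i j, 1 ≤ i → 1 ≤ j → i + j = q + 5 → ¬ RankOne t (J ^ i) (J ^ j) := by
    intro i j hi hj hij hr
    have hsw := h.swap_of_rankOne (j := q + 3) (by omega)
      (show RankOne t (J ^ 1) (J ^ (q + 3 + 1)) from h.rankOne_one hi hj hij hr)
    obtain ⟨y, hy, v, hv, hyv⟩ := h.exists_pair_ne (by omega) (show 3 + (q + 2) = q + 5 by omega)
    refine hyv ?_
    refine h.cyclic_eq_zero (by omega) h3 F.comm_inter (t.comp (LinearMap.mulRight k v))
      (fun z hz => h.t_eq_zero (mul_mem_pow hz hv) (by omega)) (fun a ha b hb => ?_) y hy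
    show t (a * b * v) = t (b * a * v)
    rw [pow_two] at hb
    refine Submodule.mul_induction_on hb (fun p hp p' hp' => ?_) fun p p' hp hp' => by
      rw [mul_add, add_mul, add_mul, add_mul, map_add, map_add, hp, hp']
    have hu : ∀ z ∈ J, z * v ∈ J ^ (q + 3) := fun z hz => by
      rw [show q + 3 = (q + 2) + 1 by omega, pow_succ']
      exact Submodule.mul_mem_mul hz hv
    have hu' : v * p ∈ J ^ (q + 3) := by
      rw [show q + 3 = (q + 2) + 1 by omega, pow_succ]
      exact Submodule.mul_mem_mul hv hp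
    calc t (a * (p * p') * v) = t (a * p * (p' * v)) := by simp only [mul_assoc]
      _ = t (p * a * (p' * v)) := hsw a ha p hp _ (hu p' hp')
      _ = t (a * p' * (v * p)) := by rw [mul_assoc p, h.cyc p]; simp only [mul_assoc]
      _ = t (p' * a * (v * p)) := hsw a ha p' hp' _ hu'
      _ = t (p * p' * a * v) := by
        rw [show p' * a * (v * p) = (p' * a * v) * p by simp only [mul_assoc], h.cyc]
        simp only [mul_assoc]
  have notLine : ∀ i e, 1 ≤ i → i ≤ q + 4 → ¬ J ^ i ≤ (k ∙ e) ⊔ J ^ (i + 1) := by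
    intro i e hi hiq hle
    exact notOne (q + 5 - i) i (by omega) hi (by omega) (h.rankOne_of_line (by omega) hle)
  have hμ : ∀ a b, prodCoord π x a b - prodCoord π x b a = ![det₂ a b, 0] := fun a b => by
    rw [prodCoord_apply, prodCoord_apply, ← map_sub, comm_genMap_two]
    have e : det₂ a b • (x 0 * x 1 - x 1 * x 0) = genMap c ![det₂ a b, 0] := by
      simp [genMap, Fintype.linearCombination_apply, Fin.sum_univ_two, hc]
    rw [e, hπ]
  have hspan : ∃ a b, prodCoord π x a b 1 ≠ 0 := by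
    by_contra! hall
    have hzero : ∀ y ∈ J ^ 2, π y 1 = 0 := by
      intro y hy
      rw [pow_two] at hy
      refine Submodule.mul_induction_on hy (fun a ha b hb => ?_) fun p p' hp hp' => by
        rw [map_add, Pi.add_apply, hp, hp', add_zero]
      obtain ⟨u, hu, r, hr, rfl⟩ := Submodule.mem_sup.1 (hgen ha)
      obtain ⟨α, rfl⟩ := (Submodule.mem_span_range_iff_exists_fun k).1 hu
      obtain ⟨u', hu', r', hr', rfl⟩ := Submodule.mem_sup.1 (hgen hb)
      obtain ⟨β, rfl⟩ := (Submodule.mem_span_range_iff_exists_fun k).1 hu'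
      rw [← Fintype.linearCombination_apply k x, ← Fintype.linearCombination_apply k x]
      have hm : ∀ α, genMap x α ∈ J ^ 1 := fun α => mem_pow_one.2 (genMap_mem hx α)
      have hrest : genMap x α * r' + r * genMap x β + r * r' ∈ J ^ 3 :=
        add_mem (add_mem (mul_mem_pow (hm α) hr') (mul_mem_pow hr (hm β)))
          (h.pow_anti (by norm_num) (by norm_num) (mul_mem_pow hr hr'))
      have e : (genMap x α + r) * (genMap x β + r') = genMap x α * genMap x β +
          (genMap x α * r' + r * genMap x β + r * r') := by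
        simp only [add_mul, mul_add]; abel
      rw [e, map_add, hπ0 _ hrest, add_zero]
      exact hall α β
    have h1 := hzero _ (hc2 1)
    have e : c 1 = genMap c ![(0 : k), 1] := by
      simp [genMap, Fintype.linearCombination_apply, Fin.sum_univ_two]
    rw [e, hπ] at h1
    simp at h1
  have hbig : 2 ≤ finrank k ((J ^ (q + 2)).map (formPair t x c)) := by
    by_contra! hlt
    obtain ⟨_, ⟨w₁, hw₁, rfl⟩, he⟩ : ∃ e ∈ (J ^ (q + 2)).map (formPair t x c),
        (J ^ (q + 2)).map (formPair t x c) ≤ k ∙ e := by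
      obtain ⟨e₁, he₁, e₂, -, hsp⟩ := exists_pair_span _ (by omega :
        finrank k ((J ^ (q + 2)).map (formPair t x c)) ≤ 2)
      by_cases hb : (J ^ (q + 2)).map (formPair t x c) = ⊥
      · exact ⟨0, zero_mem _, by rw [hb]; exact bot_le⟩
      obtain ⟨e, he, he0⟩ := Submodule.exists_mem_ne_zero_of_ne_bot hb
      refine ⟨e, he, (Submodule.eq_of_le_of_finrank_le
        ((Submodule.span_singleton_le_iff_mem _ _).2 he) ?_).ge⟩
      rw [finrank_span_singleton he0]
      omega
    refine notOne 3 (q + 2) (by omega) (by omega) (by omega) ⟨fun y => t (y * w₁), fun z hz => ?_⟩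
    obtain ⟨s, hs⟩ := Submodule.mem_span_singleton.1 (he (Submodule.mem_map_of_mem hz))
    refine ⟨s, fun y hy => ?_⟩
    have h0 := F.orth_cube (by omega) (w := z - s • w₁)
      (sub_mem hz (Submodule.smul_mem _ _ hw₁)) (by rw [map_sub, map_smul, hs, sub_self]; rfl) y hy
    rw [mul_sub, mul_smul_comm, map_sub, map_smul, sub_eq_zero] at h0
    exact h0
  obtain ⟨a, b, hab, haa, hbb⟩ := exists_two_null hμ hspan
    (S := (J ^ (q + 2)).map (formPair t x c))
    (by rintro _ ⟨v, hv, rfl⟩ a b d; exact F.formPair_eq (by omega) hv a b d)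
    (by
      rintro _ ⟨v, hv, rfl⟩ huv
      have h0 := F.orth_cube (by omega) hv huv
      refine Prod.ext (LinearMap.ext fun a => funext fun i => ?_)
        (LinearMap.ext fun a => funext fun i => ?_)
      · exact h0 _ (mul_mem_pow (j := 1) (hc2 i) (mem_pow_one.2 (genMap_mem hx a)))
      · exact h0 _ (mul_mem_pow (i := 1) (mem_pow_one.2 (genMap_mem hx a)) (hc2 i)))
    hbig
  -- the new generators
  set X := genMap x a with hX
  set Y := genMap x b with hY
  have hXJ : X ∈ J := genMap_mem hx a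
  have hYJ : Y ∈ J := genMap_mem hx b
  have hX1 : X ∈ J ^ 1 := mem_pow_one.2 hXJ
  have hY1 : Y ∈ J ^ 1 := mem_pow_one.2 hYJ
  have hsq : ∀ z : Fin 2 → k, prodCoord π x z z = 0 → genMap x z * genMap x z ∈ J ^ 3 := by
    intro z hz
    have := F.coord_sub (mul_mem_pow (mem_pow_one.2 (genMap_mem hx z))
      (mem_pow_one.2 (genMap_mem hx z)) : _ ∈ J ^ 2)
    rwa [← prodCoord_apply, hz, map_zero, sub_zero] at this
  have hXX : X * X ∈ J ^ 3 := hsq a haa
  have hYY : Y * Y ∈ J ^ 3 := hsq b hbb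
  set S := Submodule.span k {X, Y} with hS
  have hSJ : S ≤ J := Submodule.span_le.2 (Set.insert_subset hXJ (Set.singleton_subset_iff.2 hYJ))
  have hgen' : J ≤ S ⊔ J ^ 2 := by
    refine hgen.trans (sup_le_sup_right (Submodule.span_le.2 ?_) _)
    rintro _ ⟨i, rfl⟩
    have e : x i = genMap x (Pi.single i (1 : k)) := by
      simp [genMap, Fintype.linearCombination_apply_single]
    rw [SetLike.mem_coe, e, eq_combination hab (Pi.single i (1 : k)), map_add, map_smul, map_smul]
    exact add_mem (S.smul_mem _ (Submodule.subset_span (Set.mem_insert _ _)))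
      (S.smul_mem _ (Submodule.subset_span (Set.mem_insert_of_mem _ rfl)))
  -- powers of the radical by alternating words
  set T₂ := Submodule.span k {X * Y, Y * X} with hT₂
  set T₃ := Submodule.span k {X * Y * X, Y * X * Y} with hT₃
  set T₄ := Submodule.span k {X * Y * X * Y, Y * X * Y * X} with hT₄
  have hSS : S * S ≤ T₂ ⊔ J ^ 3 := by
    rw [hS, Submodule.span_mul_span, Submodule.span_le]
    rintro _ ⟨p, hp, p', hp', rfl⟩
    rcases hp with rfl | rfl <;> rcases hp' with rfl | rfl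
    · exact Submodule.mem_sup_right hXX
    · exact Submodule.mem_sup_left (Submodule.subset_span (Set.mem_insert _ _))
    · exact Submodule.mem_sup_left (Submodule.subset_span (Set.mem_insert_of_mem _ rfl))
    · exact Submodule.mem_sup_right hYY
  have hJ2' : J ^ 2 ≤ T₂ ⊔ J ^ 3 :=
    h.pow_succ_le_of_gens (i := 1) le_rfl hSJ (T := S) (by rwa [pow_one])
      hgen' (by rwa [pow_one]) hSS
  have hT₂J : T₂ ≤ J ^ 2 := Submodule.span_le.2 (Set.insert_subset (mul_mem_pow hX1 hY1)
    (Set.singleton_subset_iff.2 (mul_mem_pow hY1 hX1)))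
  have hJ3' : J ^ 3 ≤ T₃ ⊔ J ^ 4 := by
    refine h.pow_succ_le_of_gens (i := 2) one_le_two hSJ hT₂J hgen' hJ2' ?_
    rw [hS, hT₂, Submodule.span_mul_span, Submodule.span_le]
    rintro _ ⟨p, hp, p', hp', rfl⟩
    rcases hp with rfl | rfl <;> rcases hp' with rfl | rfl <;> simp only [← mul_assoc]
    · exact Submodule.mem_sup_right (mul_mem_pow (i := 3) (j := 1) hXX hY1)
    · exact Submodule.mem_sup_left (Submodule.subset_span (Set.mem_insert _ _))
    · exact Submodule.mem_sup_left (Submodule.subset_span (Set.mem_insert_of_mem _ rfl))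
    · exact Submodule.mem_sup_right (mul_mem_pow (i := 3) (j := 1) hYY hX1)
  have hXYX : X * Y * X ∈ J ^ 3 := mul_mem_pow (mul_mem_pow hX1 hY1) hX1
  have hYXY : Y * X * Y ∈ J ^ 3 := mul_mem_pow (mul_mem_pow hY1 hX1) hY1
  have hT₃J : T₃ ≤ J ^ 3 := Submodule.span_le.2 (Set.insert_subset hXYX
    (Set.singleton_subset_iff.2 hYXY))
  have hJ4' : J ^ 4 ≤ T₄ ⊔ J ^ 5 := by
    refine h.pow_succ_le_of_gens (i := 3) (by norm_num) hSJ hT₃J hgen' hJ3' ?_
    rw [hS, hT₃, Submodule.span_mul_span, Submodule.span_le]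
    rintro _ ⟨p, hp, p', hp', rfl⟩
    rcases hp with rfl | rfl <;> rcases hp' with rfl | rfl <;> simp only [← mul_assoc]
    · exact Submodule.mem_sup_right (mul_mem_pow (i := 4) (j := 1) (mul_mem_pow hXX hY1) hX1)
    · exact Submodule.mem_sup_left (Submodule.subset_span (Set.mem_insert _ _))
    · exact Submodule.mem_sup_left (Submodule.subset_span (Set.mem_insert_of_mem _ rfl))
    · exact Submodule.mem_sup_right (mul_mem_pow (i := 4) (j := 1) (mul_mem_pow hYY hX1) hY1)
  -- the commutators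
  set e₁ := X * Y * X - Y * X * X with he₁
  set e₂ := Y * X * Y - X * Y * Y with he₂
  set δ := X * Y * X * Y - Y * X * Y * X with hδ
  set E := Submodule.span k {e₁, e₂, δ} ⊔ J ^ 5 with hE
  have he₁E : e₁ ∈ E := Submodule.mem_sup_left (Submodule.subset_span (by simp))
  have he₂E : e₂ ∈ E := Submodule.mem_sup_left (Submodule.subset_span (by simp))
  have hδE : δ ∈ E := Submodule.mem_sup_left (Submodule.subset_span (by simp))
  have h5E : ∀ z, z ∈ J ^ 5 → z ∈ E := fun z hz => Submodule.mem_sup_right hz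
  have hcube : ∀ z ∈ J ^ 3, ∃ r s : k, ∃ z' ∈ J ^ 4, z = r • (X * Y * X) + s • (Y * X * Y) + z' := by
    intro z hz
    obtain ⟨u, hu, z', hz', rfl⟩ := Submodule.mem_sup.1 (hJ3' hz)
    obtain ⟨r, s, rfl⟩ := Submodule.mem_span_pair.1 hu
    exact ⟨r, s, z', hz', rfl⟩
  have hXYXY : (X * Y) * (Y * X) ∈ J ^ 5 := by
    rw [show X * Y * (Y * X) = X * (Y * Y) * X by simp only [mul_assoc]]
    exact mul_mem_pow (mul_mem_pow hX1 hYY) hX1
  have hYXXY : (Y * X) * (X * Y) ∈ J ^ 5 := by
    rw [show Y * X * (X * Y) = Y * (X * X) * Y by simp only [mul_assoc]]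
    exact mul_mem_pow (mul_mem_pow hY1 hXX) hY1
  have hdelta : X * X * Y - Y * (X * X) ∈ E ∧ Y * Y * X - X * (Y * Y) ∈ E := by
    constructor
    · obtain ⟨r, s, z', hz', e⟩ := hcube _ hXX
      have e' : X * X * Y - Y * (X * X) = r • δ +
          (s • ((Y * X) * (Y * Y) - (Y * Y) * (X * Y)) + (z' * Y - Y * z')) := by
        rw [e, hδ]
        simp only [add_mul, mul_add, smul_mul_assoc, mul_smul_comm, mul_assoc]
        module
      rw [e']
      exact add_mem (E.smul_mem _ hδE) (h5E _ (add_mem (Submodule.smul_mem _ _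
        (sub_mem (mul_mem_pow (mul_mem_pow hY1 hX1) hYY) (mul_mem_pow hYY (mul_mem_pow hX1 hY1))))
        (sub_mem (mul_mem_pow hz' hY1) (mul_mem_pow hY1 hz'))))
    · obtain ⟨r, s, z', hz', e⟩ := hcube _ hYY
      have e' : Y * Y * X - X * (Y * Y) = (-s) • δ +
          (r • ((X * Y) * (X * X) - (X * X) * (Y * X)) + (z' * X - X * z')) := by
        rw [e, hδ]
        simp only [add_mul, mul_add, smul_mul_assoc, mul_smul_comm, mul_assoc]
        module
      rw [e']
      exact add_mem (E.smul_mem _ hδE) (h5E _ (add_mem (Submodule.smul_mem _ _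
        (sub_mem (mul_mem_pow (mul_mem_pow hX1 hY1) hXX) (mul_mem_pow hXX (mul_mem_pow hY1 hX1))))
        (sub_mem (mul_mem_pow hz' hX1) (mul_mem_pow hX1 hz'))))
  have hbr : ∀ p ∈ S, ∀ z ∈ J ^ 2, p * z - z * p ∈ E := by
    have hgens : ∀ z ∈ J ^ 2, X * z - z * X ∈ E ∧ Y * z - z * Y ∈ E := by
      intro z hz
      obtain ⟨u, hu, r₃, hr₃, rfl⟩ := Submodule.mem_sup.1 (hJ2' hz)
      obtain ⟨γ, ε, rfl⟩ := Submodule.mem_span_pair.1 hu
      obtain ⟨r, s, z', hz', rfl⟩ := hcube _ hr₃
      have b1 : X * (X * Y) - X * Y * X ∈ E := by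
        have e : X * (X * Y) - X * Y * X = (X * X * Y - Y * (X * X)) - e₁ := by
          rw [he₁]; simp only [mul_assoc]; abel
        rw [e]; exact sub_mem hdelta.1 he₁E
      have b2 : X * (Y * X) - Y * X * X ∈ E := by rwa [← mul_assoc]
      have b3 : X * (X * Y * X) - X * Y * X * X ∈ E := by
        refine h5E _ (sub_mem ?_ ?_)
        · rw [show X * (X * Y * X) = (X * X) * (Y * X) by simp only [mul_assoc]]
          exact mul_mem_pow hXX (mul_mem_pow hY1 hX1)
        · rw [show X * Y * X * X = (X * Y) * (X * X) by simp only [mul_assoc]]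
          exact mul_mem_pow (mul_mem_pow hX1 hY1) hXX
      have b4 : X * (Y * X * Y) - Y * X * Y * X ∈ E := by
        have e : X * (Y * X * Y) - Y * X * Y * X = δ := by rw [hδ]; simp only [mul_assoc]
        rw [e]; exact hδE
      have b5 : X * z' - z' * X ∈ E := h5E _ (sub_mem (mul_mem_pow hX1 hz') (mul_mem_pow hz' hX1))
      have c1 : Y * (X * Y) - X * Y * Y ∈ E := by rwa [← mul_assoc]
      have c2 : Y * (Y * X) - Y * X * Y ∈ E := by
        have e : Y * (Y * X) - Y * X * Y = (Y * Y * X - X * (Y * Y)) - e₂ := by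
          rw [he₂]; simp only [mul_assoc]; abel
        rw [e]; exact sub_mem hdelta.2 he₂E
      have c3 : Y * (X * Y * X) - X * Y * X * Y ∈ E := by
        have e : Y * (X * Y * X) - X * Y * X * Y = -δ := by rw [hδ]; simp only [mul_assoc]; abel
        rw [e]; exact neg_mem hδE
      have c4 : Y * (Y * X * Y) - Y * X * Y * Y ∈ E := by
        refine h5E _ (sub_mem ?_ ?_)
        · rw [show Y * (Y * X * Y) = (Y * Y) * (X * Y) by simp only [mul_assoc]]
          exact mul_mem_pow hYY (mul_mem_pow hX1 hY1)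
        · rw [show Y * X * Y * Y = (Y * X) * (Y * Y) by simp only [mul_assoc]]
          exact mul_mem_pow (mul_mem_pow hY1 hX1) hYY
      have c5 : Y * z' - z' * Y ∈ E := h5E _ (sub_mem (mul_mem_pow hY1 hz') (mul_mem_pow hz' hY1))
      constructor
      · convert add_mem (add_mem (E.smul_mem γ b1) (E.smul_mem ε b2))
          (add_mem (add_mem (E.smul_mem r b3) (E.smul_mem s b4)) b5) using 1
        simp only [add_mul, mul_add, smul_mul_assoc, mul_smul_comm]
        module
      · convert add_mem (add_mem (E.smul_mem γ c1) (E.smul_mem ε c2))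
          (add_mem (add_mem (E.smul_mem r c3) (E.smul_mem s c4)) c5) using 1
        simp only [add_mul, mul_add, smul_mul_assoc, mul_smul_comm]
        module
    intro p hp z hz
    obtain ⟨r, s, rfl⟩ := Submodule.mem_span_pair.1 hp
    convert add_mem (E.smul_mem r (hgens z hz).1) (E.smul_mem s (hgens z hz).2) using 1
    simp only [add_mul, mul_add, smul_mul_assoc, mul_smul_comm]
    module
  have hsqsq : ∀ p ∈ J ^ 2, ∀ z ∈ J ^ 2, p * z - z * p ∈ E := by
    intro p hp z hz
    obtain ⟨u, hu, p', hp', rfl⟩ := Submodule.mem_sup.1 (hJ2' hp)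
    obtain ⟨γ, ε, rfl⟩ := Submodule.mem_span_pair.1 hu
    obtain ⟨u', hu', z', hz', rfl⟩ := Submodule.mem_sup.1 (hJ2' hz)
    obtain ⟨γ', ε', rfl⟩ := Submodule.mem_span_pair.1 hu'
    have hu2 : ∀ g g' : k, g • (X * Y) + g' • (Y * X) ∈ J ^ 2 := fun g g' =>
      add_mem (Submodule.smul_mem _ _ (mul_mem_pow hX1 hY1))
        (Submodule.smul_mem _ _ (mul_mem_pow hY1 hX1))
    refine h5E _ ?_
    have e : (γ • (X * Y) + ε • (Y * X) + p') * (γ' • (X * Y) + ε' • (Y * X) + z') -
        (γ' • (X * Y) + ε' • (Y * X) + z') * (γ • (X * Y) + ε • (Y * X) + p') =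
        (γ * ε' - ε * γ') • (X * Y * (Y * X) - Y * X * (X * Y)) +
        ((γ • (X * Y) + ε • (Y * X)) * z' - z' * (γ • (X * Y) + ε • (Y * X)) -
          ((γ' • (X * Y) + ε' • (Y * X)) * p' - p' * (γ' • (X * Y) + ε' • (Y * X))) +
          (p' * z' - z' * p')) := by
      simp only [add_mul, mul_add, smul_mul_assoc, mul_smul_comm]
      module
    rw [e]
    refine add_mem (Submodule.smul_mem _ _ (sub_mem hXYXY hYXXY)) (add_mem (sub_mem (sub_mem
      (mul_mem_pow (hu2 γ ε) hz') (mul_mem_pow hz' (hu2 γ ε))) (sub_mem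
      (mul_mem_pow (hu2 γ' ε') hp') (mul_mem_pow hp' (hu2 γ' ε')))) ?_)
    exact sub_mem (h.pow_anti (by norm_num) (by norm_num) (mul_mem_pow hp' hz'))
      (h.pow_anti (by norm_num) (by norm_num) (mul_mem_pow hz' hp'))
  have hCT : commTwo J ≤ E := by
    rw [commTwo, Submodule.span_le]
    rintro _ ⟨p, hp, z, hz, rfl⟩
    obtain ⟨p₁, hp₁, p', hp', rfl⟩ := Submodule.mem_sup.1 (hgen' hp)
    have e : (p₁ + p') * z - z * (p₁ + p') = (p₁ * z - z * p₁) + (p' * z - z * p') := by
      simp only [add_mul, mul_add]; abel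
    rw [SetLike.mem_coe, e]
    exact add_mem (hbr p₁ hp₁ z hz) (hsqsq p' hp' z hz)
  set C := X * Y - Y * X with hC
  have hK : commSpan J ≤ (k ∙ C) ⊔ E := by
    refine (h.commSpan_le (x := ![X, Y]) (by intro i; fin_cases i <;> assumption) (by
      rwa [Matrix.range_cons, Matrix.range_cons, Matrix.range_empty, Set.union_empty,
        Set.singleton_union]) (C := k ∙ C) ?_).trans (sup_le_sup_left hCT _)
    intro i j
    have h0 : (0 : R) ∈ k ∙ C := zero_mem _
    fin_cases i <;> fin_cases j <;> simp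
    · exact Submodule.mem_span_singleton_self C
    · rw [← neg_sub]
      exact neg_mem (Submodule.mem_span_singleton_self C)
  -- the fourth power is a line modulo the fifth
  refine notLine 4 δ (by omega) (by omega) ?_
  intro y hy
  obtain ⟨κ, hκ, z, hz, rfl⟩ := Submodule.mem_sup.1 (h3 (h.pow_anti (by norm_num) (by norm_num) hy))
  have hz5 : z ∈ J ^ 5 := h.pow_anti (by norm_num) (by omega) hz
  have hz45 := h.pow_anti (by norm_num : 1 ≤ 4) (by norm_num : 4 ≤ 5) hz5
  have hκ4 : κ ∈ J ^ 4 := (Submodule.add_mem_iff_left _ hz45).1 hy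
  obtain ⟨u, hu, v, hv, rfl⟩ := Submodule.mem_sup.1 (hK hκ)
  obtain ⟨α, rfl⟩ := Submodule.mem_span_singleton.1 hu
  obtain ⟨v', hv', r, hr, rfl⟩ := Submodule.mem_sup.1 hv
  obtain ⟨β₁, u₁, hu₁, rfl⟩ := Submodule.mem_span_insert.1 hv'
  obtain ⟨β₂, β₃, rfl⟩ := Submodule.mem_span_insert.1 hu₁ |>.elim fun β ⟨u₂, hu₂, he⟩ => by
    obtain ⟨β', rfl⟩ := Submodule.mem_span_singleton.1 hu₂
    exact (⟨β, β', he⟩ : ∃ β β' : k, u₁ = β • e₂ + β' • δ)
  have hr3 := h.pow_anti (by norm_num : 1 ≤ 3) (by norm_num : 3 ≤ 5) hr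
  have hr4 := h.pow_anti (by norm_num : 1 ≤ 4) (by norm_num : 4 ≤ 5) hr
  have hδ4 : δ ∈ J ^ 4 := sub_mem (mul_mem_pow hXYX hY1) (mul_mem_pow hYXY hX1)
  have hYXX : Y * X * X ∈ J ^ 4 := by rw [mul_assoc]; exact mul_mem_pow hY1 hXX
  have hXYY : X * Y * Y ∈ J ^ 4 := by rw [mul_assoc]; exact mul_mem_pow hX1 hYY
  have hα : α = 0 := by
    have hC3 : α • C ∈ J ^ 3 := by
      refine (Submodule.add_mem_iff_left _ ?_).1 (h.pow_anti (by norm_num) (by norm_num) hκ4)
      refine add_mem (add_mem (Submodule.smul_mem _ _ (sub_mem hXYX ?_)) (add_mem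
        (Submodule.smul_mem _ _ (sub_mem hYXY ?_)) (Submodule.smul_mem _ _ ?_))) hr3
      · exact h.pow_anti (by norm_num) (by norm_num) hYXX
      · exact h.pow_anti (by norm_num) (by norm_num) hXYY
      · exact h.pow_anti (by norm_num) (by norm_num) hδ4
    have e : C = det₂ a b • (x 0 * x 1 - x 1 * x 0) := comm_genMap_two x a b
    rw [e, smul_smul] at hC3
    have := congrFun (hind ![α * det₂ a b, 0] (by simpa [Fin.sum_univ_two, hc] using hC3)) 0
    simpa [hab] using this
  rw [hα, zero_smul, zero_add] at hκ4 ⊢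
  have h34 : β₁ • (X * Y * X) + β₂ • (Y * X * Y) ∈ J ^ 4 := by
    convert sub_mem hκ4 (sub_mem (add_mem (Submodule.smul_mem _ β₃ hδ4) hr4)
      (add_mem (Submodule.smul_mem _ β₁ hYXX) (Submodule.smul_mem _ β₂ hXYY))) using 1
    simp only [he₁, he₂, smul_sub]
    abel
  have hβ₁ : β₁ = 0 := by
    by_contra hne
    refine notLine 3 (Y * X * Y) (by omega) (by omega) (hJ3'.trans (sup_le ?_ le_sup_right))
    refine Submodule.span_le.2 (Set.insert_subset ?_ (Set.singleton_subset_iff.2
      (Submodule.mem_sup_left (Submodule.mem_span_singleton_self _))))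
    have h1 : β₁ • (X * Y * X) ∈ (k ∙ (Y * X * Y)) ⊔ J ^ 4 := by
      rw [← add_sub_cancel ((-β₂) • (Y * X * Y)) (β₁ • (X * Y * X)), neg_smul, sub_neg_eq_add]
      exact Submodule.add_mem_sup
        (neg_mem (Submodule.smul_mem _ _ (Submodule.mem_span_singleton_self _))) h34
    simpa [smul_smul, inv_mul_cancel₀ hne] using Submodule.smul_mem _ β₁⁻¹ h1
  have hβ₂ : β₂ = 0 := by
    by_contra hne
    refine notLine 3 (X * Y * X) (by omega) (by omega) (hJ3'.trans (sup_le ?_ le_sup_right))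
    refine Submodule.span_le.2 (Set.insert_subset
      (Submodule.mem_sup_left (Submodule.mem_span_singleton_self _))
      (Set.singleton_subset_iff.2 ?_))
    rw [hβ₁, zero_smul, zero_add] at h34
    exact Submodule.mem_sup_right (by
      simpa [smul_smul, inv_mul_cancel₀ hne] using Submodule.smul_mem _ β₂⁻¹ h34)
  rw [hβ₁, hβ₂, zero_smul, zero_smul, zero_add, zero_add, add_assoc]
  exact Submodule.add_mem_sup (Submodule.smul_mem _ _ (Submodule.mem_span_singleton_self _))
    (add_mem hr hz5)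

end Cfsg.Lib.Block.Five
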