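import Cfsg.Agent.Lib.Block.FiveChars.ThreeGen
import Cfsg.Agent.Lib.Block.FiveChars.TwoGen

/-!
# Local symmetric algebras with commutators of codimension at most four

If the commutators have codimension at most four in the radical, the algebra is commutative or
its radical has dimension at most seven.
-/

set_option autoImplicit false
set_option linter.unusedSectionVars false
set_option maxHeartbeats 1000000

namespace Cfsg.Lib.Block.Five

open Cfsg Module Matrix

variable {k : Type*} [Field k] {R : Type*} [Ring R] [Algebra k R] [FiniteDimensional k R]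
  {t : R →ₗ[k] k} {J : Submodule k R} {L : ℕ}

/-- Two generators, one of which has a square generating the square modulo the cube. -/
theorem comm_of_power_gen (h : SymLocal t J L) {z y : R} (hz : z ∈ J) (hy : y ∈ J)
    (hgen : J ≤ Submodule.span k {z, y} ⊔ J ^ 2) (hsq : J ^ 2 ≤ (k ∙ z ^ 2) ⊔ J ^ 3) :
    ∀ a ∈ J, ∀ b ∈ J, a * b = b * a := by
  have hzy : Submodule.span k {z, y} ≤ J :=
    Submodule.span_le.2 (Set.insert_subset hz (Set.singleton_subset_iff.2 hy))
  have hz1 : z ∈ J ^ 1 := mem_pow_one.2 hz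
  have hy1 : y ∈ J ^ 1 := mem_pow_one.2 hy
  have hpow : ∀ j, 2 ≤ j → J ^ j ≤ (k ∙ z ^ j) ⊔ J ^ (j + 1) := by
    intro j hj
    induction j, hj using Nat.le_induction with
    | base => exact hsq
    | succ j hj ih =>
      refine h.pow_succ_le_of_gens (i := j) (by omega) hzy
        ((Submodule.span_singleton_le_iff_mem _ _).2 (Submodule.pow_mem_pow J hz j)) hgen ih ?_
      rw [Submodule.span_mul_span, Submodule.span_le]
      rintro _ ⟨p, hp, p', hp', rfl⟩
      rw [Set.mem_singleton_iff] at hp'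
      subst hp'
      rcases hp with rfl | rfl
      · refine Submodule.mem_sup_left (Submodule.mem_span_singleton.2 ⟨1, ?_⟩)
        rw [one_smul, pow_succ']
      · obtain ⟨i, rfl⟩ : ∃ i, j = i + 1 := ⟨j - 1, by omega⟩
        obtain ⟨u, hu, r, hr, e⟩ := Submodule.mem_sup.1
          (hsq (mul_mem_pow hy1 hz1 : p * z ∈ J ^ 2))
        obtain ⟨s, rfl⟩ := Submodule.mem_span_singleton.1 hu
        show p * z ^ (i + 1) ∈ _
        rw [pow_succ' z i, ← mul_assoc, ← e, add_mul, smul_mul_assoc, ← pow_add,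
          show 2 + i = i + 1 + 1 by omega]
        refine Submodule.add_mem_sup (Submodule.smul_mem _ _ (Submodule.mem_span_singleton_self _)) ?_
        rw [show i + 1 + 2 = 3 + i by omega]
        exact mul_mem_pow hr (Submodule.pow_mem_pow J hz i)
  set P := Submodule.span k (Set.range fun i : ℕ => z ^ i) with hP
  have hP2 : J ^ 2 ≤ P := by
    have hall : ∀ j, 2 ≤ j → J ^ 2 ≤ P ⊔ J ^ j := by
      intro j hj
      induction j, hj using Nat.le_induction with
      | base => exact le_sup_right
      | succ j hj ih =>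
        refine ih.trans (sup_le le_sup_left ((hpow j hj).trans (sup_le_sup_right ?_ _)))
        rw [Submodule.span_singleton_le_iff_mem]
        exact Submodule.subset_span ⟨j, rfl⟩
    refine (hall (L + 2) (by omega)).trans (sup_le le_rfl fun p hp => ?_)
    rw [h.eq_zero hp (by omega)]
    exact zero_mem _
  have hC : z * y - y * z = 0 := by
    refine h.eq_zero_of_ann (sub_mem (h.mul_le (Submodule.mul_mem_mul hz hy))
      (h.mul_le (Submodule.mul_mem_mul hy hz))) (by rw [map_sub, h.cyc, sub_self]) ?_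
    have h1 : ∀ i, t ((z * y - y * z) * z ^ i) = 0 := fun i => by
      rw [sub_mul, map_sub, mul_assoc, h.cyc z, mul_assoc, mul_assoc y z, ← pow_succ, ← pow_succ',
        sub_self]
    have h2 : t ((z * y - y * z) * y) = 0 := by
      rw [sub_mul, map_sub, mul_assoc y z, h.cyc y (z * y), sub_self]
    intro a ha
    obtain ⟨u, hu, r, hr, rfl⟩ := Submodule.mem_sup.1 (hgen ha)
    obtain ⟨α, β, rfl⟩ := Submodule.mem_span_pair.1 hu
    have h3 : P ≤ LinearMap.ker (t.comp (LinearMap.mulLeft k (z * y - y * z))) := by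
      rw [hP, Submodule.span_le]
      rintro _ ⟨i, rfl⟩
      exact h1 i
    have h4 : t ((z * y - y * z) * r) = 0 := h3 (hP2 hr)
    have h5 := h1 1
    rw [pow_one] at h5
    rw [mul_add, mul_add, map_add, map_add, mul_smul_comm, mul_smul_comm, map_smul, map_smul, h2,
      h4, h5, smul_zero, smul_zero, add_zero, add_zero]
  have hzc : Commute z y := sub_eq_zero.1 hC
  set V := Submodule.span k (insert y (Set.range fun i : ℕ => z ^ i)) with hV
  have hJV : J ≤ V := hgen.trans (sup_le (Submodule.span_le.2 (Set.insert_subset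
      (Submodule.subset_span (Set.mem_insert_of_mem _ ⟨1, pow_one z⟩))
      (Set.singleton_subset_iff.2 (Submodule.subset_span (Set.mem_insert _ _)))))
    (hP2.trans (Submodule.span_mono (Set.subset_insert _ _))))
  intro a ha b hb
  have hall : ∀ p ∈ V, ∀ p' ∈ V, Commute p p' := by
    intro p hp p' hp'
    induction hp using Submodule.span_induction with
    | mem p hp =>
      induction hp' using Submodule.span_induction with
      | mem p' hp' =>
        rcases hp with rfl | ⟨i, rfl⟩ <;> rcases hp' with rfl | ⟨j, rfl⟩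
        · exact Commute.refl _
        · exact (hzc.pow_left j).symm
        · exact hzc.pow_left i
        · exact Commute.pow_pow_self z i j
      | zero => exact Commute.zero_right _
      | add p q _ _ h1 h2 => exact h1.add_right h2
      | smul s p _ h1 => exact h1.smul_right s
    | zero => exact Commute.zero_left _
    | add p q _ _ h1 h2 => exact h1.add_left h2
    | smul s p _ h1 => exact h1.smul_left s
  exact hall a (hJV ha) b (hJV hb)

/-- Two generators and a square which is a line modulo the cube. -/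
theorem comm_of_two_gen_line (h : SymLocal t J L) (hL : 3 ≤ L) (x : Fin 2 → R) (hx : ∀ i, x i ∈ J)
    (hgen : J ≤ Submodule.span k (Set.range x) ⊔ J ^ 2) {w : R} (hw : w ∈ J ^ 2)
    (hline : J ^ 2 ≤ (k ∙ w) ⊔ J ^ 3) : ∀ a ∈ J, ∀ b ∈ J, a * b = b * a := by
  have hrange : Set.range x = {x 0, x 1} := by
    ext z
    constructor
    · rintro ⟨i, rfl⟩
      fin_cases i <;> simp
    · rintro (rfl | rfl) <;> exact Set.mem_range_self _
  rw [hrange] at hgen
  have hcom : ∀ a ∈ J, ∀ b ∈ J, a * b - b * a ∈ J ^ 3 := fun a ha b hb =>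
    comm_mem_cube h.mul_le (N := L + 1) (fun y hy => h.eq_zero hy le_rfl) (by rwa [← pow_two])
      (by rwa [← pow_two]) (fun h0 => h.not_pow_le (i := 3) (by norm_num) hL (by rw [h0]; exact bot_le))
      ha hb
  have hsq : ∀ z ∈ J, z * z ∉ J ^ 3 → J ^ 2 ≤ (k ∙ z ^ 2) ⊔ J ^ 3 := by
    intro z hz hz3
    have hz2 : z * z ∈ J ^ 2 := by rw [pow_two J]; exact Submodule.mul_mem_mul hz hz
    obtain ⟨u, hu, r, hr, e⟩ := Submodule.mem_sup.1 (hline hz2)
    obtain ⟨β, rfl⟩ := Submodule.mem_span_singleton.1 hu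
    have hβ : β ≠ 0 := fun h0 => hz3 (by rw [← e, h0, zero_smul, zero_add]; exact hr)
    refine hline.trans (sup_le ((Submodule.span_singleton_le_iff_mem _ _).2 ?_) le_sup_right)
    have e' : w = β⁻¹ • (z * z) + (-β⁻¹) • r := by
      rw [← e, smul_add, smul_smul, inv_mul_cancel₀ hβ, one_smul, neg_smul, add_neg_cancel_right]
    rw [e', pow_two]
    exact Submodule.add_mem_sup (Submodule.smul_mem _ _ (Submodule.mem_span_singleton_self _))
      (Submodule.smul_mem _ _ hr)
  by_cases h0 : x 0 * x 0 ∈ J ^ 3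
  swap
  · exact comm_of_power_gen h (hx 0) (hx 1) hgen (hsq _ (hx 0) h0)
  by_cases h1 : x 1 * x 1 ∈ J ^ 3
  swap
  · exact comm_of_power_gen h (hx 1) (hx 0) (by rwa [Set.pair_comm]) (hsq _ (hx 1) h1)
  exfalso
  set S := Submodule.span k {x 0, x 1} with hS
  have hSJ : S ≤ J :=
    Submodule.span_le.2 (Set.insert_subset (hx 0) (Set.singleton_subset_iff.2 (hx 1)))
  have hp : ∀ i, x i ∈ J ^ 1 := fun i => mem_pow_one.2 (hx i)
  have h2 : J ^ 2 ≤ (k ∙ (x 0 * x 1)) ⊔ J ^ 3 := by
    refine h.pow_succ_le_of_gens (i := 1) le_rfl hSJ (T := S) (by rwa [pow_one]) hgen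
      (by rwa [pow_one]) ?_
    rw [hS, Submodule.span_mul_span, Submodule.span_le]
    rintro _ ⟨p, hp₁, p', hp₂, rfl⟩
    rcases hp₁ with rfl | rfl <;> rcases hp₂ with rfl | rfl
    · exact Submodule.mem_sup_right h0
    · exact Submodule.mem_sup_left (Submodule.mem_span_singleton_self _)
    · show x 1 * x 0 ∈ (k ∙ (x 0 * x 1)) ⊔ J ^ 3
      rw [← sub_sub_self (x 0 * x 1) (x 1 * x 0)]
      exact sub_mem (Submodule.mem_sup_left (Submodule.mem_span_singleton_self _))
        (Submodule.mem_sup_right (hcom _ (hx 0) _ (hx 1)))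
    · exact Submodule.mem_sup_right h1
  refine h.not_pow_le (i := 3) (by norm_num) hL ?_
  refine (h.pow_succ_le_of_gens (i := 2) one_le_two hSJ
    ((Submodule.span_singleton_le_iff_mem _ _).2 (mul_mem_pow (hp 0) (hp 1))) hgen h2
    (T' := ⊥) ?_).trans (le_of_eq (bot_sup_eq _))
  rw [hS, Submodule.span_mul_span, Submodule.span_le, bot_sup_eq]
  rintro _ ⟨p, hp₁, p', hp₂, rfl⟩
  rw [Set.mem_singleton_iff] at hp₂
  subst hp₂
  rcases hp₁ with rfl | rfl
  · show x 0 * (x 0 * x 1) ∈ J ^ 4
    rw [← mul_assoc]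
    exact mul_mem_pow h0 (hp 1)
  · show x 1 * (x 0 * x 1) ∈ J ^ 4
    have e : x 1 * (x 0 * x 1) = x 0 * (x 1 * x 1) - (x 0 * x 1 - x 1 * x 0) * x 1 := by
      simp only [sub_mul, mul_assoc]; abel
    rw [e]
    exact sub_mem (mul_mem_pow (hp 0) h1) (mul_mem_pow (hcom _ (hx 0) _ (hx 1)) (hp 1))

theorem finrank_span_range_le {n : ℕ} (x : Fin n → R) :
    finrank k (Submodule.span k (Set.range x)) ≤ n := by
  exact (finrank_range_le_card x).trans (Fintype.card_fin n).le

/-- A local symmetric algebra with commutators of codimension at most four is commutative or has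
radical of dimension at most seven. -/
theorem comm_or_finrank_le_seven [IsAlgClosed k] {N : ℕ} (hcyc : ∀ x y, t (x * y) = t (y * x))
    (hJJ : J * J ≤ J) (hN : ∀ y ∈ J ^ N, y = 0)
    (hnd : ∀ I : Submodule k R, I ≤ J → I * J ≤ I → I ≠ ⊥ → ∃ y ∈ I, t y ≠ 0)
    (hdim : finrank k J ≤ finrank k (commSpan J) + 4)
    (hline : ∀ x ∈ J, J ≤ (k ∙ x) ⊔ J * J → ∀ y ∈ J, ∀ z ∈ J, y * z = z * y) :
    (∀ y ∈ J, ∀ z ∈ J, y * z = z * y) ∨ finrank k J ≤ 7 := by
  classical
  have : Infinite k := IsAlgClosed.instInfinite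
  by_contra! hcon
  obtain ⟨⟨y₁, hy₁, y₂, hy₂, hne⟩, h7⟩ := hcon
  have hnc : ¬ ∀ y ∈ J, ∀ z ∈ J, y * z = z * y := fun h => hne (h y₁ hy₁ y₂ hy₂)
  set K := commSpan J with hK
  have hKt : ∀ w ∈ K, t w = 0 := by
    intro w hw
    induction hw using Submodule.span_induction with
    | mem w hw =>
      obtain ⟨a, -, b, -, rfl⟩ := hw
      rw [map_sub, hcyc, sub_self]
    | zero => exact map_zero t
    | add a b _ _ ha hb => rw [map_add, ha, hb, add_zero]
    | smul s a _ ha => rw [map_smul, ha, smul_zero]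
  have hKJJ : K ≤ J ^ 2 := by rw [pow_two]; exact commSpan_le_mul
  have hyK : y₁ * y₂ - y₂ * y₁ ∈ K := Submodule.subset_span ⟨y₁, hy₁, y₂, hy₂, rfl⟩
  have hJ2J : J ^ 2 ≤ J := by rw [pow_two]; exact hJJ
  have h3ne : J ^ 3 ≠ ⊥ := by
    intro h3
    have hK0 : K = ⊥ := by
      by_contra h
      obtain ⟨w, hw, hwt⟩ := hnd K (hKJJ.trans hJ2J) (by
        refine le_of_le_of_eq (mul_le_mul_left hKJJ J) ?_ |>.trans bot_le
        rw [← pow_succ, h3]) h
      exact hwt (hKt w hw)
    rw [hK0, Submodule.mem_bot, sub_eq_zero] at hyK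
    exact hne hyK
  have hex : ∃ n, J ^ (n + 1) = ⊥ := ⟨N, by
    rw [Submodule.eq_bot_iff]
    intro y hy
    rw [pow_succ] at hy
    exact Submodule.mul_induction_on hy (fun a ha b _ => by rw [hN a ha, zero_mul])
      fun a b ha hb => by rw [ha, hb, add_zero]⟩
  set L := Nat.find hex with hLdef
  have hanti : ∀ i m, 1 ≤ i → i ≤ m → J ^ m ≤ J ^ i := by
    intro i m hi him
    induction m, him using Nat.le_induction with
    | base => exact le_rfl
    | succ m hm ih =>
      obtain ⟨n, rfl⟩ : ∃ n, m = n + 1 := ⟨m - 1, by omega⟩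
      exact (pow_succ_succ_le hJJ n).trans ih
  have hL : 3 ≤ L := by
    by_contra hlt
    refine h3ne (eq_bot_iff.2 ?_)
    rw [← Nat.find_spec hex]
    exact hanti _ _ (by omega) (by omega)
  have h : SymLocal t J L := ⟨hcyc, hJJ, hnd, fun h0 => Nat.find_min hex
    (show L - 1 < L by omega) (by rw [show L - 1 + 1 = L by omega]; exact h0), Nat.find_spec hex⟩
  obtain ⟨w₀, hw₀, htw₀⟩ := h.exists_top (by omega)
  have hw₀2 : w₀ ∈ J ^ 2 := h.pow_anti (by norm_num) (by omega) hw₀
  have hw₀3 : w₀ ∈ J ^ 3 := h.pow_anti (by norm_num) hL hw₀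
  have hKlt : K < K ⊔ (k ∙ w₀) := lt_of_le_of_ne le_sup_left fun h0 => htw₀ (hKt w₀ (by
    rw [h0]; exact Submodule.mem_sup_right (Submodule.mem_span_singleton_self w₀)))
  have hKw2 : K ⊔ (k ∙ w₀) ≤ J ^ 2 :=
    sup_le hKJJ ((Submodule.span_singleton_le_iff_mem _ _).2 hw₀2)
  have d1 := Submodule.finrank_lt_finrank_of_lt hKlt
  have d2 := Submodule.finrank_mono hKw2
  have d3 := Submodule.finrank_mono hJ2J
  obtain ⟨n, hn⟩ : ∃ n, finrank k J = finrank k ↥(J ^ 2) + n :=
    ⟨finrank k J - finrank k ↥(J ^ 2), by omega⟩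
  obtain ⟨x, hx, hgen, hind⟩ := exists_gens hJ2J hn
  have hcube : commTwo J ≤ J ^ 3 := h.commTwo_le
  have hn3 : n ≤ 3 := by omega
  interval_cases n
  · exact hnc (hline 0 (zero_mem _) (hgen.trans (sup_le (by simp) (by rw [pow_two]; exact le_sup_right))))
  · refine hnc (hline (x 0) (hx 0) (hgen.trans (sup_le (Submodule.span_le.2 ?_) (by
      rw [pow_two]; exact le_sup_right))))
    rintro _ ⟨i, rfl⟩
    rw [Subsingleton.elim i 0]
    exact Submodule.mem_sup_left (Submodule.mem_span_singleton_self _)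
  · -- two generators
    set c₀ := x 0 * x 1 - x 1 * x 0 with hc₀
    have hKc : K ≤ (k ∙ c₀) ⊔ J ^ 3 := by
      refine (h.commSpan_le hx hgen (C := k ∙ c₀) fun i j => ?_).trans (sup_le_sup_left hcube _)
      have e : ∀ i, x i = genMap x (Pi.single i (1 : k)) := fun i => by
        simp [genMap, Fintype.linearCombination_apply_single]
      rw [e i, e j, comm_genMap_two]
      exact Submodule.smul_mem _ _ (Submodule.mem_span_singleton_self _)
    have hc₀2 : c₀ ∈ J ^ 2 := hKJJ (Submodule.subset_span ⟨_, hx 0, _, hx 1, rfl⟩)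
    set W := K ⊔ J ^ 3 with hW
    have hW2 : W ≤ J ^ 2 := sup_le hKJJ (h.pow_anti (by norm_num) (by norm_num))
    by_cases hWJ : J ^ 2 ≤ W
    · exact hnc (comm_of_two_gen_line h hL x hx hgen hc₀2
        (hWJ.trans (sup_le hKc le_sup_right)))
    obtain ⟨w, hw, hwW⟩ := SetLike.not_le_iff_exists.1 hWJ
    have hlt : W < W ⊔ (k ∙ w) := lt_of_le_of_ne le_sup_left fun h0 => hwW (by
      rw [h0]; exact Submodule.mem_sup_right (Submodule.mem_span_singleton_self w))
    have d4 := Submodule.finrank_lt_finrank_of_lt hlt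
    have hle : W ⊔ (k ∙ w) ≤ J ^ 2 := sup_le hW2 ((Submodule.span_singleton_le_iff_mem _ _).2 hw)
    have d5 := Submodule.finrank_mono hle
    have hKW : K ⊔ (k ∙ w₀) ≤ W :=
      sup_le_sup_left ((Submodule.span_singleton_le_iff_mem _ _).2 hw₀3) _
    have d6 := Submodule.finrank_mono hKW
    have heW : K ⊔ (k ∙ w₀) = W := Submodule.eq_of_le_of_finrank_le hKW (by omega)
    have he2 : W ⊔ (k ∙ w) = J ^ 2 := Submodule.eq_of_le_of_finrank_le hle (by omega)
    have hJ2 : J ^ 2 ≤ Submodule.span k (Set.range ![c₀, w]) ⊔ J ^ 3 := by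
      rw [← he2]
      refine sup_le (sup_le (hKc.trans (sup_le_sup_right ?_ _)) le_sup_right) ?_
      · exact (Submodule.span_singleton_le_iff_mem _ _).2 (Submodule.subset_span ⟨0, rfl⟩)
      · exact le_sup_of_le_left
          ((Submodule.span_singleton_le_iff_mem _ _).2 (Submodule.subset_span ⟨1, rfl⟩))
    by_cases h5 : 5 ≤ L
    · refine not_two_gen h h5 x hx hgen w hw (fun α hα => ?_) hJ2 ?_
      · simp [Fin.sum_univ_two] at hα
        have hβ : α 1 = 0 := by
          by_contra hne1
          refine hwW ?_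
          have h1 : α 1 • w ∈ W := by
            rw [← add_sub_cancel_left (α 0 • c₀) (α 1 • w)]
            exact sub_mem (Submodule.mem_sup_right hα) (Submodule.mem_sup_left
              (K.smul_mem _ (Submodule.subset_span ⟨_, hx 0, _, hx 1, rfl⟩)))
          simpa [smul_smul, inv_mul_cancel₀ hne1] using W.smul_mem (α 1)⁻¹ h1
        have hα0 : α 0 = 0 := by
          by_contra hne0
          rw [hβ, zero_smul, add_zero] at hα
          refine hnc (comm_of_two_gen_line h hL x hx hgen hw (hJ2.trans (sup_le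
            (Submodule.span_le.2 ?_) le_sup_right)))
          rintro _ ⟨i, rfl⟩
          fin_cases i
          · exact Submodule.mem_sup_right (by
              simpa [smul_smul, inv_mul_cancel₀ hne0] using Submodule.smul_mem _ (α 0)⁻¹ hα)
          · exact Submodule.mem_sup_left (Submodule.mem_span_singleton_self _)
        funext i
        fin_cases i <;> assumption
      · exact ((le_sup_right : J ^ 3 ≤ W).trans heW.ge).trans
          (sup_le_sup_left ((Submodule.span_singleton_le_iff_mem _ _).2 hw₀) _)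
    -- the cube has dimension at most three
    have d7 : finrank k ↥(J ^ 3) ≤ 3 := by
      let f : R →ₗ[k] Fin 3 → k :=
        LinearMap.pi ![t, t.comp (LinearMap.mulRight k (x 0)), t.comp (LinearMap.mulRight k (x 1))]
      have hf : Function.Injective (f.comp (J ^ 3).subtype) := fun p p' hpp => by
        refine Subtype.ext (sub_eq_zero.1 ?_)
        have h0 : f ((p : R) - p') = 0 := by rw [map_sub, sub_eq_zero]; exact hpp
        have hd : (p : R) - p' ∈ J ^ 3 := sub_mem p.2 p'.2
        refine h.eq_zero_of_ann (h.pow_le (by norm_num) hd) (congrFun h0 0) fun a ha => ?_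
        obtain ⟨u, hu, r, hr, rfl⟩ := Submodule.mem_sup.1 (hgen ha)
        rw [mul_add, map_add, h.t_eq_zero (mul_mem_pow hd hr) (by omega), add_zero]
        obtain ⟨α, rfl⟩ := (Submodule.mem_span_range_iff_exists_fun k).1 hu
        have q0 : t (((p : R) - p') * x 0) = 0 := congrFun h0 1
        have q1 : t (((p : R) - p') * x 1) = 0 := congrFun h0 2
        simp [Fin.sum_univ_two, mul_add, q0, q1]
      simpa using LinearMap.finrank_le_finrank_of_injective hf
    have d8 := Submodule.finrank_mono hJ2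
    have d9 := Submodule.finrank_add_le_finrank_add_finrank
      (Submodule.span k (Set.range ![c₀, w])) (J ^ 3)
    have d10 := finrank_span_range_le (k := k) ![c₀, w]
    omega
  · -- three generators
    have heq : K ⊔ (k ∙ w₀) = J ^ 2 := Submodule.eq_of_le_of_finrank_le hKw2 (by omega)
    have hcm : ∀ i j, x i * x j - x j * x i ∈ Submodule.span k (Set.range (crossComm x)) :=
      crossComm_mem x fun i => Submodule.subset_span (Set.mem_range_self i)
    have hJ2 : J ^ 2 ≤ Submodule.span k (Set.range (crossComm x)) ⊔ J ^ 3 := by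
      rw [← heq]
      exact sup_le ((h.commSpan_le hx hgen hcm).trans (sup_le_sup_left hcube _))
        (le_sup_of_le_right ((Submodule.span_singleton_le_iff_mem _ _).2 hw₀3))
    by_cases h4 : 4 ≤ L
    · refine not_three_gen h h4 x hx hgen hind hJ2 ?_
      refine (h.pow_anti (by norm_num) (by norm_num) : J ^ 3 ≤ J ^ 2).trans ?_
      rw [← heq]
      exact sup_le_sup_left ((Submodule.span_singleton_le_iff_mem _ _).2 hw₀) _
    have hL3 : L = 3 := by omega
    have d7 : finrank k ↥(J ^ 3) ≤ 1 := by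
      have h1 := Submodule.finrank_mono (h.top_le (by omega) hw₀ htw₀)
      rw [finrank_span_singleton (fun h0 => htw₀ (by rw [h0, map_zero]))] at h1
      rw [hL3] at h1
      exact h1
    have d8 := Submodule.finrank_mono hJ2
    have d9 := Submodule.finrank_add_le_finrank_add_finrank
      (Submodule.span k (Set.range (crossComm x))) (J ^ 3)
    have d10 := finrank_span_range_le (k := k) (crossComm x)
    omega

end Cfsg.Lib.Block.Five
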