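import Cfsg.Agent.Lib.Block.SmallCenter

/-!
# Pairings of the radical powers of a local symmetric algebra

For a cyclic functional `t` on the radical `J` of a local symmetric algebra with top power `J ^ L`
we study the pairings of `J ^ i` with `J ^ j` for `i + j = L`.
-/

set_option autoImplicit false
set_option linter.unusedSectionVars false

namespace Cfsg.Lib.Block.Five

open Cfsg Module

variable {k : Type*} [Field k] {R : Type*} [Ring R] [Algebra k R]

/-- A cyclic functional on a nilpotent subalgebra vanishing on no nonzero right ideal, and the top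
degree. -/
structure SymLocal (t : R →ₗ[k] k) (J : Submodule k R) (L : ℕ) : Prop where
  cyc : ∀ x y, t (x * y) = t (y * x)
  mul_le : J * J ≤ J
  nd : ∀ I : Submodule k R, I ≤ J → I * J ≤ I → I ≠ ⊥ → ∃ y ∈ I, t y ≠ 0
  top_ne : J ^ L ≠ ⊥
  top_zero : J ^ (L + 1) = ⊥

/-- A pairing of rank at most one. -/
def RankOne (t : R →ₗ[k] k) (X Y : Submodule k R) : Prop :=
  ∃ φ : R → k, ∀ y ∈ Y, ∃ s : k, ∀ x ∈ X, t (x * y) = s * φ x

/-- The commutators of a subspace with its square. -/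
def commTwo (J : Submodule k R) : Submodule k R :=
  Submodule.span k {w | ∃ a ∈ J, ∃ b ∈ J ^ 2, w = a * b - b * a}

variable {t : R →ₗ[k] k} {J : Submodule k R} {L : ℕ}

theorem mul_mem_pow {a b : R} {i j : ℕ} (ha : a ∈ J ^ i) (hb : b ∈ J ^ j) :
    a * b ∈ J ^ (i + j) := by
  rw [pow_add]; exact Submodule.mul_mem_mul ha hb

theorem mem_pow_one {a : R} : a ∈ J ^ 1 ↔ a ∈ J := by rw [pow_one]

namespace SymLocal

variable (h : SymLocal t J L)
include h

theorem pow_anti {i m : ℕ} (hi : 1 ≤ i) (him : i ≤ m) : J ^ m ≤ J ^ i := by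
  induction him with
  | refl => exact le_rfl
  | @step m hm ih =>
    obtain ⟨n, rfl⟩ : ∃ n, m = n + 1 := ⟨m - 1, (Nat.succ_pred_eq_of_pos (hi.trans hm)).symm⟩
    exact (pow_succ_succ_le h.mul_le n).trans ih

theorem pow_le {i : ℕ} (hi : 1 ≤ i) : J ^ i ≤ J := by
  simpa using h.pow_anti (i := 1) le_rfl hi

theorem eq_zero {x : R} {m : ℕ} (hx : x ∈ J ^ m) (hm : L + 1 ≤ m) : x = 0 := by
  have := h.pow_anti (Nat.succ_pos L) hm hx
  rwa [h.top_zero, Submodule.mem_bot] at this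

theorem t_eq_zero {x : R} {m : ℕ} (hx : x ∈ J ^ m) (hm : L + 1 ≤ m) : t x = 0 := by
  rw [h.eq_zero hx hm, map_zero]

/-- No power equals the next. -/
theorem not_pow_le {i : ℕ} (hi : 1 ≤ i) (hiL : i ≤ L) : ¬ J ^ i ≤ J ^ (i + 1) := by
  intro hle
  obtain ⟨n, rfl⟩ : ∃ n, i = n + 1 := ⟨i - 1, by omega⟩
  have h0 : J ^ (n + 1) = ⊥ := pow_eq_bot_of_le (N := L + 1) h.mul_le
    (fun y hy => h.eq_zero hy le_rfl) hle
  exact h.top_ne (eq_bot_iff.2 (h0 ▸ h.pow_anti hi hiL))

/-- An element killed with all its multiples by `t` vanishes. -/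
theorem eq_zero_of_ann {y : R} (hy : y ∈ J) (h0 : t y = 0) (h1 : ∀ z ∈ J, t (y * z) = 0) :
    y = 0 := by
  by_contra hne
  set I : Submodule k R := (k ∙ y) ⊔ (k ∙ y) * J with hI
  have hyI : y ∈ I := Submodule.mem_sup_left (Submodule.mem_span_singleton_self y)
  have hIJ : I ≤ J := sup_le ((Submodule.span_singleton_le_iff_mem y J).2 hy)
    ((mul_le_mul_left ((Submodule.span_singleton_le_iff_mem y J).2 hy) J).trans h.mul_le)
  have hst : I * J ≤ I := by
    rw [hI, Submodule.sup_mul, mul_assoc]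
    exact (sup_le le_rfl (mul_le_mul_right h.mul_le _)).trans le_sup_right
  obtain ⟨z, hz, htz⟩ := h.nd I hIJ hst fun hb => hne ((Submodule.mem_bot k).1 (hb ▸ hyI))
  obtain ⟨u, hu, v, hv, rfl⟩ := Submodule.mem_sup.1 hz
  obtain ⟨α, rfl⟩ := Submodule.mem_span_singleton.1 hu
  refine htz ?_
  have hv0 : t v = 0 := Submodule.mul_induction_on hv (fun a ha b hb => by
    obtain ⟨β, rfl⟩ := Submodule.mem_span_singleton.1 ha
    rw [smul_mul_assoc, map_smul, h1 b hb, smul_zero]) fun a b ha hb => by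
    rw [map_add, ha, hb, add_zero]
  rw [map_add, map_smul, h0, hv0, smul_zero, add_zero]

/-- The top power is not killed by `t`. -/
theorem exists_top (hL : 1 ≤ L) : ∃ y ∈ J ^ L, t y ≠ 0 := by
  refine h.nd _ (h.pow_le hL) ?_ h.top_ne
  rw [← pow_succ, h.top_zero]
  exact bot_le

/-- The top power is a line. -/
theorem top_le (hL : 1 ≤ L) {w : R} (hw : w ∈ J ^ L) (hw0 : t w ≠ 0) : J ^ L ≤ k ∙ w := by
  intro y hy
  rw [Submodule.mem_span_singleton]
  refine ⟨t y / t w, (sub_eq_zero.1 (h.eq_zero_of_ann ?_ ?_ fun z hz => ?_)).symm⟩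
  · exact sub_mem (h.pow_le hL hy) (J.smul_mem _ (h.pow_le hL hw))
  · rw [map_sub, map_smul, smul_eq_mul, div_mul_cancel₀ _ hw0, sub_self]
  · exact h.t_eq_zero (mul_mem_pow (sub_mem hy (Submodule.smul_mem _ _ hw)) (mem_pow_one.2 hz))
      le_rfl

/-- The pairing of complementary powers is not zero. -/
theorem exists_pair_ne (hL : 1 ≤ L) {i j : ℕ} (hij : i + j = L) :
    ∃ x ∈ J ^ i, ∃ y ∈ J ^ j, t (x * y) ≠ 0 := by
  by_contra! hc
  obtain ⟨y, hy, hy0⟩ := h.exists_top hL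
  rw [← hij, pow_add] at hy
  exact hy0 (Submodule.mul_induction_on hy hc fun a b ha hb => by rw [map_add, ha, hb, add_zero])

theorem rankOne_symm {X Y : Submodule k R} (hr : RankOne t X Y) : RankOne t Y X := by
  obtain ⟨φ, hφ⟩ := hr
  choose! s hs using hφ
  exact ⟨s, fun x hx => ⟨φ x, fun y hy => by rw [h.cyc, hs y hy x hx, mul_comm]⟩⟩

/-- A pairing of rank at most one makes the next one have rank at most one. -/
theorem rankOne_step {i j : ℕ} (hij : i + 1 + (j + 1) = L)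
    (hr : RankOne t (J ^ (i + 1)) (J ^ (j + 1))) : RankOne t (J ^ i) (J ^ (j + 2)) := by
  obtain ⟨φ, hφ⟩ := hr
  choose! s hs using hφ
  obtain ⟨d₀, hd₀, u₀, hu₀, hne⟩ : ∃ d ∈ J, ∃ u ∈ J ^ j, s (d * u) ≠ 0 := by
    by_contra! hc
    obtain ⟨x, hx, y, hy, hxy⟩ := h.exists_pair_ne (by omega) hij
    refine hxy ?_
    rw [pow_succ'] at hy
    exact Submodule.mul_induction_on hy (fun d hd u hu => by
      rw [hs _ (by rw [pow_succ']; exact Submodule.mul_mem_mul hd hu) x hx, hc d hd u hu,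
        zero_mul]) fun a b ha hb => by rw [mul_add, map_add, ha, hb, add_zero]
  refine ⟨fun x => φ (x * d₀), fun y hy => ?_⟩
  rw [pow_succ _ (j + 1)] at hy
  refine Submodule.mul_induction_on hy (fun u hu a ha => ⟨s u * (s (u₀ * a) / s (d₀ * u₀)),
    fun x hx => ?_⟩) fun y₁ y₂ ⟨s₁, h₁⟩ ⟨s₂, h₂⟩ => ⟨s₁ + s₂, fun x hx => by
      rw [mul_add, map_add, h₁ x hx, h₂ x hx, add_mul]⟩
  have hax : a * x ∈ J ^ (i + 1) := by rw [pow_succ']; exact Submodule.mul_mem_mul ha hx
  have hxd : x * d₀ ∈ J ^ (i + 1) := by rw [pow_succ]; exact Submodule.mul_mem_mul hx hd₀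
  have hdu : d₀ * u₀ ∈ J ^ (j + 1) := by rw [pow_succ']; exact Submodule.mul_mem_mul hd₀ hu₀
  have hua : u₀ * a ∈ J ^ (j + 1) := by rw [pow_succ]; exact Submodule.mul_mem_mul hu₀ ha
  have e : s (d₀ * u₀) * φ (a * x) = s (u₀ * a) * φ (x * d₀) := by
    rw [← hs _ hdu _ hax, ← hs _ hua _ hxd, mul_assoc, h.cyc]
    simp only [mul_assoc]
  rw [← mul_assoc, h.cyc, ← mul_assoc, hs u hu _ hax]
  calc s u * φ (a * x) = s u * (s (d₀ * u₀) * φ (a * x)) / s (d₀ * u₀) := by field_simp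
    _ = _ := by rw [e]; ring

/-- A pairing of rank at most one gives one of the radical with the next to top power. -/
theorem rankOne_one : ∀ {i j : ℕ}, 1 ≤ i → 1 ≤ j → i + j = L → RankOne t (J ^ i) (J ^ j) →
    RankOne t (J ^ 1) (J ^ (L - 1)) := by
  intro i
  induction i with
  | zero => intro j hi; omega
  | succ i ih =>
    intro j _ hj hij hr
    rcases Nat.eq_zero_or_pos i with rfl | hi
    · rwa [show L - 1 = j by omega]
    obtain ⟨j, rfl⟩ : ∃ j', j = j' + 1 := ⟨j - 1, by omega⟩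
    exact ih hi (by omega) (by omega) (h.rankOne_step hij hr)

/-- If the pairing of the radical with the next to top power has rank at most one, the first two
factors of a top product commute under `t`. -/
theorem swap_of_rankOne {j : ℕ} (hL : L = j + 2) (hr : RankOne t (J ^ 1) (J ^ (j + 1))) :
    ∀ a ∈ J, ∀ b ∈ J, ∀ u ∈ J ^ j, t (a * b * u) = t (b * a * u) := by
  obtain ⟨φ, hφ⟩ := hr
  choose! s hs using hφ
  obtain ⟨a₀, ha₀, hne⟩ : ∃ a ∈ J, φ a ≠ 0 := by
    by_contra! hc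
    obtain ⟨x, hx, y, hy, hxy⟩ := h.exists_pair_ne (by omega) (show 1 + (j + 1) = L by omega)
    exact hxy (by rw [hs y hy x hx, hc x (mem_pow_one.1 hx), mul_zero])
  have hb : ∀ b ∈ J, ∀ u ∈ J ^ j, s (b * u) * φ a₀ = s (u * a₀) * φ b := by
    intro b hb u hu
    rw [← hs _ (by rw [pow_succ']; exact Submodule.mul_mem_mul hb hu) _ (mem_pow_one.2 ha₀),
      ← hs _ (by rw [pow_succ]; exact Submodule.mul_mem_mul hu ha₀) _ (mem_pow_one.2 hb), h.cyc,
      mul_assoc]
  intro a ha b hb' u hu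
  rw [mul_assoc, mul_assoc, hs _ (by rw [pow_succ']; exact Submodule.mul_mem_mul hb' hu) _
    (mem_pow_one.2 ha), hs _ (by rw [pow_succ']; exact Submodule.mul_mem_mul ha hu) _
    (mem_pow_one.2 hb')]
  refine mul_right_cancel₀ hne ?_
  calc s (b * u) * φ a * φ a₀ = s (b * u) * φ a₀ * φ a := by ring
    _ = s (a * u) * φ a₀ * φ b := by rw [hb b hb' u hu, hb a ha u hu]; ring
    _ = s (a * u) * φ b * φ a₀ := by ring

theorem commTwo_le : commTwo J ≤ J ^ 3 := by
  rw [commTwo, Submodule.span_le]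
  rintro _ ⟨a, ha, b, hb, rfl⟩
  exact sub_mem (mul_mem_pow (i := 1) (mem_pow_one.2 ha) hb)
    (mul_mem_pow (j := 1) hb (mem_pow_one.2 ha))

/-- Commutators are those of generators, up to commutators with the square. -/
theorem commSpan_le {ι : Type*} {x : ι → R} (hx : ∀ i, x i ∈ J)
    (hgen : J ≤ Submodule.span k (Set.range x) ⊔ J ^ 2) {C : Submodule k R}
    (hC : ∀ i j, x i * x j - x j * x i ∈ C) : commSpan J ≤ C ⊔ commTwo J := by
  set S := Submodule.span k (Set.range x) with hS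
  have hSJ : S ≤ J := Submodule.span_le.2 (by rintro _ ⟨i, rfl⟩; exact hx i)
  have hSS : ∀ a ∈ S, ∀ b ∈ S, a * b - b * a ∈ C := by
    intro a ha b hb
    induction ha using Submodule.span_induction with
    | mem a ha =>
      obtain ⟨i, rfl⟩ := ha
      induction hb using Submodule.span_induction with
      | mem b hb => obtain ⟨j, rfl⟩ := hb; exact hC i j
      | zero => rw [mul_zero, zero_mul, sub_self]; exact zero_mem C
      | add p q _ _ hp hq =>
        have e : x i * (p + q) - (p + q) * x i = (x i * p - p * x i) + (x i * q - q * x i) := by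
          rw [mul_add, add_mul]; abel
        rw [e]; exact add_mem hp hq
      | smul s p _ hp =>
        rw [mul_smul_comm, smul_mul_assoc, ← smul_sub]; exact C.smul_mem s hp
    | zero => rw [zero_mul, mul_zero, sub_self]; exact zero_mem C
    | add p q _ _ hp hq =>
      have e : (p + q) * b - b * (p + q) = (p * b - b * p) + (q * b - b * q) := by
        rw [mul_add, add_mul]; abel
      rw [e]; exact add_mem hp hq
    | smul s p _ hp => rw [smul_mul_assoc, mul_smul_comm, ← smul_sub]; exact C.smul_mem s hp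
  rw [commSpan, Submodule.span_le]
  rintro _ ⟨a, ha, b, hb, rfl⟩
  obtain ⟨a₁, ha₁, r, hr, rfl⟩ := Submodule.mem_sup.1 (hgen ha)
  obtain ⟨b₁, hb₁, r', hr', rfl⟩ := Submodule.mem_sup.1 (hgen hb)
  have e : (a₁ + r) * (b₁ + r') - (b₁ + r') * (a₁ + r) =
      (a₁ * b₁ - b₁ * a₁) + ((a₁ * r' - r' * a₁) - (b₁ * r - r * b₁) + (r * r' - r' * r)) := by
    simp only [add_mul, mul_add]; abel
  rw [SetLike.mem_coe, e]
  refine Submodule.add_mem_sup (hSS a₁ ha₁ b₁ hb₁) ?_
  refine add_mem (sub_mem ?_ ?_) ?_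
  · exact Submodule.subset_span ⟨a₁, hSJ ha₁, r', hr', rfl⟩
  · exact Submodule.subset_span ⟨b₁, hSJ hb₁, r, hr, rfl⟩
  · exact Submodule.subset_span ⟨r, h.pow_le one_le_two hr, r', hr', rfl⟩

/-- A functional on the cube which is cyclic vanishes. -/
theorem cyclic_eq_zero (hL : 4 ≤ L) (h3 : J ^ 3 ≤ commSpan J ⊔ J ^ L)
    (hK : ∀ κ ∈ commSpan J, κ ∈ J ^ 3 → κ ∈ commTwo J) (g : R →ₗ[k] k)
    (hg4 : ∀ y ∈ J ^ 4, g y = 0) (hg : ∀ a ∈ J, ∀ b ∈ J ^ 2, g (a * b) = g (b * a)) :
    ∀ y ∈ J ^ 3, g y = 0 := by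
  intro y hy
  obtain ⟨κ, hκ, z, hz, rfl⟩ := Submodule.mem_sup.1 (h3 hy)
  have hz4 := h.pow_anti (by norm_num) hL hz
  have hκ3 : κ ∈ J ^ 3 := by
    simpa using sub_mem hy (h.pow_anti (by norm_num) (by omega : 3 ≤ L) hz)
  have h0 : commTwo J ≤ LinearMap.ker g := by
    rw [commTwo, Submodule.span_le]
    rintro _ ⟨a, ha, b, hb, rfl⟩
    rw [SetLike.mem_coe, LinearMap.mem_ker, map_sub, hg a ha b hb, sub_self]
  rw [map_add, LinearMap.mem_ker.1 (h0 (hK κ hκ hκ3)), hg4 z hz4, add_zero]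

/-- The spanning of a power by generators. -/
theorem pow_succ_le_of_gens {S T T' : Submodule k R} {i : ℕ} (hi : 1 ≤ i) (hSJ : S ≤ J)
    (hTJ : T ≤ J ^ i) (hJ : J ≤ S ⊔ J ^ 2) (hT : J ^ i ≤ T ⊔ J ^ (i + 1))
    (hST : S * T ≤ T' ⊔ J ^ (i + 2)) : J ^ (i + 1) ≤ T' ⊔ J ^ (i + 2) := by
  calc J ^ (i + 1) = J * J ^ i := pow_succ' _ _
    _ ≤ (S ⊔ J ^ 2) * (T ⊔ J ^ (i + 1)) := mul_le_mul' hJ hT
    _ ≤ T' ⊔ J ^ (i + 2) := by
      rw [Submodule.sup_mul, Submodule.mul_sup, Submodule.mul_sup]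
      refine sup_le (sup_le hST ?_) (sup_le ?_ ?_)
      · refine le_sup_of_le_right ((mul_le_mul_left hSJ _).trans (le_of_eq ?_))
        rw [← pow_succ']
      · refine le_sup_of_le_right ((mul_le_mul_right hTJ _).trans (le_of_eq ?_))
        rw [← pow_add, add_comm]
      · refine le_sup_of_le_right ?_
        rw [← pow_add]
        exact h.pow_anti (by omega) (by omega)

end SymLocal

/-- Generators modulo a subspace. -/
theorem exists_gens [FiniteDimensional k R] {S W : Submodule k R} (hWS : W ≤ S) {n : ℕ}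
    (hn : finrank k S = finrank k W + n) :
    ∃ x : Fin n → R, (∀ i, x i ∈ S) ∧ S ≤ Submodule.span k (Set.range x) ⊔ W ∧
      ∀ α : Fin n → k, (∑ i, α i • x i) ∈ W → α = 0 := by
  set W' : Submodule k S := W.comap S.subtype with hW'
  have h1 : finrank k W' = finrank k W := (Submodule.comapSubtypeEquivOfLe hWS).finrank_eq
  have h2 : finrank k (S ⧸ W') = n := by
    have := Submodule.finrank_quotient_add_finrank W'
    omega
  let b : Basis (Fin n) k (S ⧸ W') := Module.finBasisOfFinrankEq k _ h2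
  choose x hx using fun i => W'.mkQ_surjective (b i)
  refine ⟨fun i => (x i : R), fun i => (x i).2, fun s hs => ?_, fun α hα => ?_⟩
  · have h3 : W'.mkQ (⟨s, hs⟩ - ∑ i, b.repr (W'.mkQ ⟨s, hs⟩) i • x i) = 0 := by
      rw [map_sub, map_sum]
      simp only [map_smul, hx, b.sum_repr, sub_self]
    rw [Submodule.mkQ_apply, Submodule.Quotient.mk_eq_zero] at h3
    replace h3 := Submodule.mem_comap.1 h3
    rw [map_sub, map_sum] at h3
    simp only [map_smul, Submodule.subtype_apply] at h3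
    rw [← add_sub_cancel (∑ i, b.repr (W'.mkQ ⟨s, hs⟩) i • (x i : R)) s]
    exact Submodule.add_mem_sup (Submodule.sum_mem _ fun i _ =>
      Submodule.smul_mem _ _ (Submodule.subset_span (Set.mem_range_self i))) h3
  · have h3 : (∑ i, α i • x i) ∈ W' := by
      refine Submodule.mem_comap.2 ?_
      simpa using hα
    rw [← Submodule.Quotient.mk_eq_zero, ← Submodule.mkQ_apply, map_sum] at h3
    simp only [map_smul, hx] at h3
    exact funext (Fintype.linearIndependent_iff.1 b.linearIndependent α h3)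

end Cfsg.Lib.Block.Five
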