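import Cfsg.Agent.Lib.Block.FiveChars.Algebra
import Cfsg.Agent.Lib.Block.CyclicResidue

/-!
# The corner of a block with one simple module and five characters

The dimension of the corner is at most eight, so a defect group has at most eight elements.
-/

set_option autoImplicit false
set_option linter.unusedSectionVars false
set_option maxHeartbeats 1000000

namespace Cfsg.Lib.Block

open Cfsg Module
open scoped MonoidAlgebra

universe u

variable {p : ℕ} [Fact p.Prime] {M : Ideal AlgInt} {A : Type u} [Group A] [Fintype A]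
  (hM : IsPModular p M) {B : Set (IrrCharacter A)}

include hM in
/-- The corner at an idempotent of rank one of a block with one simple module and at most five
characters. -/
theorem finrank_corner_le_eight (hB : IsPBlock M B) (hk : Nat.card B ≤ 5) (hl : blockRank p B ≤ 1)
    {m : ℕ} {σ : Representation (resField hM) A (Fin m → resField hM)}
    (hσ : σ.IsIrreducible) (hσb : blockOp hM B σ = 1) {i₀ : Fin m} {e : KGA hM A}
    (he : IsIdempotentElem e) (heB : blkA hM B * e = e)
    (hσe : σ.asAlgebraHom e = (LinearMap.proj i₀).smulRight (Pi.single i₀ (1 : resField hM))) :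
    finrank (resField hM) (cornerSub e) ≤ 8 := by
  classical
  have hr : finrank (resField hM) (LinearMap.range (σ.asAlgebraHom e)) = 1 := by
    rw [hσe, LinearMap.range_smulRight_apply (by
      intro h
      have := LinearMap.congr_fun h (Pi.single i₀ 1)
      simp at this),
      finrank_span_singleton (Pi.single_ne_zero_iff.2 one_ne_zero)]
  obtain ⟨N, a, b, hab⟩ := exists_full hM hB hl hσ hσb he heB hr
  set S : Submodule (resField hM) (KGA hM A) := cornerSub e with hS
  set J : Submodule (resField hM) (KGA hM A) := S ⊓ LinearMap.ker σ.asAlgebraHom.toLinearMap with hJ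
  have hmem : ∀ x, x ∈ S ↔ e * x * e = x := fun x => mem_cornerSub he
  have heS : e ∈ S := (hmem e).2 (by rw [he.eq, he.eq])
  have hJmem : ∀ x, x ∈ J ↔ e * x * e = x ∧ σ.asAlgebraHom x = 0 := fun x => by
    rw [hJ, Submodule.mem_inf, hmem, LinearMap.mem_ker, AlgHom.toLinearMap_apply]
  have hid : ∀ x, e * (e * x * e) * e = e * x * e := fun x => by
    calc e * (e * x * e) * e = (e * e) * x * (e * e) := by simp only [mul_assoc]
      _ = _ := by rw [he.eq]
  have hei : ∀ j ∈ J, e * j = j ∧ j * e = j := by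
    intro j hj
    have h := ((hJmem j).1 hj).1
    constructor
    · conv_lhs => rw [← h, ← mul_assoc, ← mul_assoc, he.eq]
      exact h
    · conv_lhs => rw [← h, mul_assoc, he.eq]
      exact h
  have hJJ : J * J ≤ J := by
    rw [Submodule.mul_le]
    intro y hy z hz
    rw [hJmem]
    refine ⟨?_, by rw [map_mul, ((hJmem y).1 hy).2, zero_mul]⟩
    rw [← mul_assoc, (hei y hy).1, mul_assoc, (hei z hz).2]
  have hdec : ∀ x, e * x * e = x → ∃ c : resField hM, x - c • e ∈ J := fun x hx => by
    refine ⟨σ.asAlgebraHom x (Pi.single i₀ 1) i₀, (hJmem _).2 ⟨?_, sub_smul_mem_ker hσe hx⟩⟩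
    rw [mul_sub, sub_mul, hx, mul_smul_comm, smul_mul_assoc, he.eq, he.eq]
  have hK : cornerComm e ≤ commSpan J := by
    rw [cornerComm, Submodule.span_le]
    rintro _ ⟨x, y, rfl⟩
    obtain ⟨c, hc⟩ := hdec _ (hid x)
    obtain ⟨d, hd⟩ := hdec _ (hid y)
    refine Submodule.subset_span ⟨_, hc, _, hd, ?_⟩
    obtain ⟨u, hu⟩ : ∃ u, e * x * e - c • e = u := ⟨_, rfl⟩
    obtain ⟨w, hw⟩ : ∃ w, e * y * e - d • e = w := ⟨_, rfl⟩
    rw [hu] at hc ⊢
    rw [hw] at hd ⊢
    rw [show e * x * e = u + c • e by rw [← hu, sub_add_cancel],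
      show e * y * e = w + d • e by rw [← hw, sub_add_cancel]]
    simp only [add_mul, mul_add, mul_smul_comm, smul_mul_assoc, he.eq, (hei u hc).1,
      (hei u hc).2, (hei w hd).1, (hei w hd).2]
    module
  -- nilpotence
  obtain ⟨N', hN', hnil⟩ := pow_submodule_mul_blk hM hB J fun c hc n τ hτ hτb => by
    obtain ⟨φ, hφ⟩ := simple_data hM hB hl hσ hσb τ hτ hτb
    refine LinearMap.ext fun v => ?_
    obtain ⟨v, rfl⟩ := φ.surjective v
    rw [← LinearEquiv.coe_coe, ← map_asAlgebraHom φ.toLinearMap hφ, ((hJmem c).1 hc).2]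
    simp
  have hzero : ∀ y ∈ J ^ N', y = 0 := by
    intro y hy
    obtain ⟨n, rfl⟩ := Nat.exists_eq_add_one.2 hN'
    have hyJ := hei y (pow_succ_le_self hJJ n hy)
    have h1 : e * blkA hM B = e := (cV_commute hM (indVec B) e).eq.symm.trans heB
    have h2 : y * blkA hM B = y := by
      conv_rhs => rw [← hyJ.2, ← h1, ← mul_assoc, hyJ.2]
    rw [← h2]
    exact hnil y hy
  have hnd : ∀ I : Submodule (resField hM) (KGA hM A), I ≤ J → I * J ≤ I → I ≠ ⊥ →
      ∃ y ∈ I, coeffOne hM y ≠ 0 := by
    intro I hIJ hI hne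
    obtain ⟨y, hy, hy0⟩ := Submodule.exists_mem_ne_zero_of_ne_bot hne
    by_contra! h
    refine hy0 (eq_zero_of_coeffOne hM fun x => ?_)
    obtain ⟨c, hc⟩ := hdec _ (hid x)
    have hye := (hei y (hIJ hy))
    have e1 : coeffOne hM (y * x) = coeffOne hM (y * (e * x * e)) := by
      conv_lhs => rw [← hye.1, mul_assoc, coeffOne_mul_comm, ← hye.2]
      simp only [mul_assoc]
    rw [e1, show e * x * e = (e * x * e - c • e) + c • e by rw [sub_add_cancel], mul_add, map_add,
      mul_smul_comm, map_smul, hye.2, h y hy, h _ (hI (Submodule.mul_mem_mul hy hc)), smul_zero,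
      add_zero]
  -- dimensions
  have hlt : J < S := lt_of_le_of_ne inf_le_left fun h => by
    have h0 := ((hJmem e).1 (h ▸ heS)).2
    rw [h0] at hσe
    have := congrFun (LinearMap.congr_fun hσe (Pi.single i₀ 1)) i₀
    simp at this
  have hcd := finrank_corner_le hB he heB hab
  rw [← hS] at hcd
  have hJS := Submodule.finrank_lt_finrank_of_lt hlt
  have hKle := Submodule.finrank_mono hK
  have hSJ : finrank (resField hM) S ≤ finrank (resField hM) J + 1 := by
    have hle : S ≤ ((resField hM) ∙ e) ⊔ J := fun x hx => by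
      obtain ⟨c, hc⟩ := hdec x ((hmem x).1 hx)
      rw [← add_sub_cancel (c • e) x]
      exact Submodule.add_mem_sup (Submodule.smul_mem _ _ (Submodule.mem_span_singleton_self e)) hc
    refine (Submodule.finrank_mono hle).trans ((Submodule.finrank_add_le_finrank_add_finrank _ _).trans ?_)
    have h1 : finrank (resField hM) ((resField hM) ∙ e : Submodule (resField hM) (KGA hM A)) ≤ 1 := by
      simpa using finrank_span_le_card (R := resField hM) ({e} : Set (KGA hM A))
    omega
  haveI := isAlgClosed_resField hM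
  rcases Five.comm_or_finrank_le_seven (t := coeffOne hM) (coeffOne_mul_comm hM) hJJ hzero hnd
      (by omega) (fun x hx hxJ => mul_comm_of_line_add_sq hM hx hxJ hzero) with hcomm | h7
  · have hK0 : commSpan J = ⊥ := by
      rw [← le_bot_iff, commSpan, Submodule.span_le]
      rintro _ ⟨y, hy, z, hz, rfl⟩
      rw [SetLike.mem_coe, Submodule.mem_bot, hcomm y hy z hz, sub_self]
    rw [hK0, finrank_bot] at hKle
    omega
  · omega

include hM in
open Classical in
/-- In a block with one simple module and five characters a defect group has between five and eight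
elements. -/
theorem pow_defect_mem_five_eight (hB : IsPBlock M B) (hk : Nat.card B = 5)
    (hl : blockRank p B = 1) :
    5 ≤ p ^ blockDefect p B ∧ p ^ blockDefect p B ≤ 8 := by
  obtain ⟨m, σ, hσ, hσb⟩ := exists_simple hM hB
  obtain ⟨e, he, -, heB, hσe⟩ :=
    exists_rank_one_idem hM hB hl.le hσ hσb ⟨0, simple_dim_pos hM hσ⟩
  have h1 := finrank_corner_le_eight hM hB hk.le hl.le hσ hσb he heB hσe
  have h2 := pow_defect_dvd_finrank_corner hM hB hl hσ hσb he heB hσe
  have h5 : Module.finrank (resField hM) (cornerSub e) ≠ 0 := fun h => by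
    rw [Submodule.finrank_eq_zero, Submodule.eq_bot_iff] at h
    have h6 := h e ((mem_cornerSub he).2 (by rw [he.eq, he.eq]))
    rw [h6, map_zero] at hσe
    have := congrFun (LinearMap.congr_fun hσe
      (Pi.single ⟨0, simple_dim_pos hM hσ⟩ 1)) ⟨0, simple_dim_pos hM hσ⟩
    simp at this
  refine ⟨?_, (Nat.le_of_dvd (Nat.pos_of_ne_zero h5) h2).trans h1⟩
  set g := B.toFinset.gcd fun χ : IrrCharacter A => charDegree (χ : A → ℂ) with hg
  obtain ⟨χ, hχ⟩ := nonempty_of_isPBlock hM hB
  have hg0 : g ≠ 0 := fun h => (charDegree_pos χ).ne'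
    (Nat.eq_zero_of_zero_dvd (h ▸ Finset.gcd_dvd (Set.mem_toFinset.2 hχ)))
  have hsum : Nat.card B * g ^ 2 ≤ p ^ blockDefect p B * g ^ 2 := by
    rw [← sum_sq_rank_one hM hB hl, Nat.card_eq_fintype_card, ← Set.toFinset_card, ← smul_eq_mul,
      ← Finset.sum_const]
    exact Finset.sum_le_sum fun η hη => Nat.pow_le_pow_left
      (Nat.le_of_dvd (charDegree_pos η) (hg ▸ Finset.gcd_dvd hη)) 2
  rw [← hk]
  exact Nat.le_of_mul_le_mul_right hsum (pow_pos (Nat.pos_of_ne_zero hg0) 2)

end Cfsg.Lib.Block
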