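import Cfsg.Agent.Lib.Block.FiveChars.Basic

/-!
# Trilinear forms on the cube of the radical

The coordinates of the products of the generators in `J ^ 2 / J ^ 3` and the pairs of bilinear
forms given by the elements of the power complementary to the cube.
-/

set_option autoImplicit false
set_option linter.unusedSectionVars false

namespace Cfsg.Lib.Block.Five

open Cfsg Module Matrix

variable {k : Type*} [Field k] {R : Type*} [Ring R] [Algebra k R] {n m : ℕ}

/-- The element with the given coordinates. -/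
abbrev genMap (x : Fin n → R) : (Fin n → k) →ₗ[k] R := Fintype.linearCombination k x

theorem genMap_mem {J : Submodule k R} {x : Fin n → R} (hx : ∀ i, x i ∈ J) (a : Fin n → k) :
    genMap x a ∈ J := by
  rw [genMap, Fintype.linearCombination_apply]
  exact Submodule.sum_mem _ fun i _ => J.smul_mem _ (hx i)

/-- Coordinates with respect to vectors independent modulo a subspace. -/
theorem exists_coord (W : Submodule k R) {c : Fin m → R}
    (hind : ∀ α : Fin m → k, (∑ i, α i • c i) ∈ W → α = 0) :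
    ∃ π : R →ₗ[k] (Fin m → k), (∀ α, π (genMap c α) = α) ∧ ∀ y ∈ W, π y = 0 := by
  have hker : LinearMap.ker (W.mkQ.comp (genMap (k := k) c)) = ⊥ := by
    rw [LinearMap.ker_eq_bot']
    intro α hα
    rw [LinearMap.comp_apply, Submodule.mkQ_apply, Submodule.Quotient.mk_eq_zero, genMap,
      Fintype.linearCombination_apply] at hα
    exact hind α hα
  obtain ⟨g, hg⟩ := LinearMap.exists_leftInverse_of_injective _ hker
  refine ⟨g.comp W.mkQ, fun α => LinearMap.congr_fun hg α, fun y hy => ?_⟩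
  rw [LinearMap.comp_apply, Submodule.mkQ_apply, (Submodule.Quotient.mk_eq_zero W).2 hy, map_zero]

/-- The product of two generator combinations in coordinates. -/
def prodCoord (π : R →ₗ[k] (Fin m → k)) (x : Fin n → R) :
    (Fin n → k) →ₗ[k] (Fin n → k) →ₗ[k] (Fin m → k) :=
  ((LinearMap.mul k R).compl₁₂ (genMap x) (genMap x)).compr₂ π

theorem prodCoord_apply (π : R →ₗ[k] (Fin m → k)) (x : Fin n → R) (a b : Fin n → k) :
    prodCoord π x a b = π (genMap x a * genMap x b) := rfl

/-- The pair of bilinear forms given by an element. -/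
def formPair (t : R →ₗ[k] k) (x : Fin n → R) (c : Fin m → R) :
    R →ₗ[k] ((Fin n → k) →ₗ[k] (Fin m → k)) × ((Fin n → k) →ₗ[k] (Fin m → k)) :=
  LinearMap.prod
    (LinearMap.mk₂ k (fun w a i => t (c i * genMap x a * w))
      (fun w w' a => funext fun i => by simp [mul_add])
      (fun s w a => funext fun i => by simp)
      (fun w a a' => funext fun i => by simp [mul_add, add_mul])
      (fun s w a => funext fun i => by simp))
    (LinearMap.mk₂ k (fun w a i => t (genMap x a * c i * w))
      (fun w w' a => funext fun i => by simp [mul_add])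
      (fun s w a => funext fun i => by simp)
      (fun w a a' => funext fun i => by simp [add_mul])
      (fun s w a => funext fun i => by simp))

theorem formPair_fst (t : R →ₗ[k] k) (x : Fin n → R) (c : Fin m → R) (w : R) (a : Fin n → k)
    (i : Fin m) : (formPair t x c w).1 a i = t (c i * genMap x a * w) := rfl

theorem formPair_snd (t : R →ₗ[k] k) (x : Fin n → R) (c : Fin m → R) (w : R) (a : Fin n → k)
    (i : Fin m) : (formPair t x c w).2 a i = t (genMap x a * c i * w) := rfl

theorem dot_formPair_fst (t : R →ₗ[k] k) (x : Fin n → R) (c : Fin m → R) (w : R) (a : Fin n → k)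
    (β : Fin m → k) : (formPair t x c w).1 a ⬝ᵥ β = t (genMap c β * genMap x a * w) := by
  rw [dotProduct, genMap, Fintype.linearCombination_apply, Finset.sum_mul, Finset.sum_mul, map_sum]
  refine Finset.sum_congr rfl fun i _ => ?_
  rw [formPair_fst, smul_mul_assoc, smul_mul_assoc, map_smul, smul_eq_mul, mul_comm]

theorem dot_formPair_snd (t : R →ₗ[k] k) (x : Fin n → R) (c : Fin m → R) (w : R) (a : Fin n → k)
    (β : Fin m → k) : (formPair t x c w).2 a ⬝ᵥ β = t (genMap x a * genMap c β * w) := by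
  rw [dotProduct, Fintype.linearCombination_apply k c, Finset.mul_sum, Finset.sum_mul, map_sum]
  refine Finset.sum_congr rfl fun i _ => ?_
  rw [formPair_snd, mul_smul_comm, smul_mul_assoc, map_smul, smul_eq_mul, mul_comm]

/-- The data of generators and a basis of the square modulo the cube. -/
structure Frame (t : R →ₗ[k] k) (J : Submodule k R) (L : ℕ) (x : Fin n → R) (c : Fin m → R)
    (π : R →ₗ[k] (Fin m → k)) : Prop where
  sym : SymLocal t J L
  four_le : 4 ≤ L
  x_mem : ∀ i, x i ∈ J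
  c_mem : ∀ i, c i ∈ J ^ 2
  gen : J ≤ Submodule.span k (Set.range x) ⊔ J ^ 2
  gen_sq : J ^ 2 ≤ Submodule.span k (Set.range c) ⊔ J ^ 3
  coord : ∀ α, π (genMap c α) = α
  coord_zero : ∀ y ∈ J ^ 3, π y = 0
  cube_le : J ^ 3 ≤ commSpan J ⊔ J ^ L
  comm_inter : ∀ κ ∈ commSpan J, κ ∈ J ^ 3 → κ ∈ commTwo J

namespace Frame

variable {t : R →ₗ[k] k} {J : Submodule k R} {L : ℕ} {x : Fin n → R} {c : Fin m → R}
  {π : R →ₗ[k] (Fin m → k)} (F : Frame t J L x c π)
include F

theorem coord_sub {y : R} (hy : y ∈ J ^ 2) : y - genMap c (π y) ∈ J ^ 3 := by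
  obtain ⟨u, hu, r, hr, rfl⟩ := Submodule.mem_sup.1 (F.gen_sq hy)
  obtain ⟨α, rfl⟩ := (Submodule.mem_span_range_iff_exists_fun k).1 hu
  have e : π (∑ i, α i • c i + r) = α := by
    rw [map_add, F.coord_zero r hr, add_zero, ← Fintype.linearCombination_apply k c, F.coord]
  rw [e, genMap, Fintype.linearCombination_apply, add_sub_cancel_left]
  exact hr

/-- The defining identity of the pairs. -/
theorem formPair_eq {j : ℕ} (hj : j + 3 = L) {w : R} (hw : w ∈ J ^ j) (a b d : Fin n → k) :
    (formPair t x c w).1 d ⬝ᵥ prodCoord π x a b =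
      (formPair t x c w).2 a ⬝ᵥ prodCoord π x b d := by
  have hsq : ∀ a b : Fin n → k, genMap x a * genMap x b ∈ J ^ 2 := fun a b => by
    rw [pow_two]; exact Submodule.mul_mem_mul (genMap_mem F.x_mem a) (genMap_mem F.x_mem b)
  have h1 : ∀ z, z ∈ J ^ 4 → t (z * w) = 0 := fun z hz =>
    F.sym.t_eq_zero (mul_mem_pow hz hw) (by omega)
  have h2 := h1 _ (mul_mem_pow (j := 1) (F.coord_sub (hsq a b)) (mem_pow_one.2 (genMap_mem F.x_mem d)))
  have h3 := h1 _ (mul_mem_pow (i := 1) (mem_pow_one.2 (genMap_mem F.x_mem a)) (F.coord_sub (hsq b d)))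
  rw [sub_mul, sub_mul, map_sub, sub_eq_zero] at h2
  rw [mul_sub, sub_mul, map_sub, sub_eq_zero] at h3
  rw [dot_formPair_fst, dot_formPair_snd, prodCoord_apply, prodCoord_apply, ← h2, ← h3]
  simp only [mul_assoc]

/-- Equal forms in a pair force orthogonality to the cube. -/
theorem orth_cube {j : ℕ} (hj : j + 3 = L) {w : R} (hw : w ∈ J ^ j)
    (huv : (formPair t x c w).1 = (formPair t x c w).2) : ∀ y ∈ J ^ 3, t (y * w) = 0 := by
  let g : R →ₗ[k] k := t.comp (LinearMap.mulRight k w)
  refine F.sym.cyclic_eq_zero F.four_le F.cube_le F.comm_inter g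
    (fun y hy => F.sym.t_eq_zero (mul_mem_pow hy hw) (by omega)) fun a ha b hb => ?_
  show t (a * b * w) = t (b * a * w)
  obtain ⟨u, hu, r, hr, rfl⟩ := Submodule.mem_sup.1 (F.gen ha)
  obtain ⟨α, rfl⟩ := (Submodule.mem_span_range_iff_exists_fun k).1 hu
  rw [← Fintype.linearCombination_apply k x]
  obtain ⟨β, r', hr', rfl⟩ : ∃ β : Fin m → k, ∃ r' ∈ J ^ 3, b = genMap c β + r' :=
    ⟨π b, _, F.coord_sub hb, (add_sub_cancel _ _).symm⟩
  have hc : genMap c β ∈ J ^ 2 := genMap_mem F.c_mem β
  have hι : genMap x α ∈ J ^ 1 := mem_pow_one.2 (genMap_mem F.x_mem α)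
  have z : ∀ {p q : R} {i l : ℕ}, p ∈ J ^ i → q ∈ J ^ l → 4 ≤ i + l → t (p * q * w) = 0 :=
    fun hp hq hil => F.sym.t_eq_zero (mul_mem_pow (mul_mem_pow hp hq) hw) (by omega)
  have e : t (genMap x α * genMap c β * w) = t (genMap c β * genMap x α * w) := by
    rw [← dot_formPair_fst t x c w α β, ← dot_formPair_snd t x c w α β, huv]
  simp only [add_mul, mul_add, map_add, z hι hr' le_rfl, z hr' hι le_rfl, z hr hc le_rfl,
    z hc hr le_rfl, z hr hr' (by norm_num), z hr' hr (by norm_num), add_zero]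
  exact e

end Frame

/-- A subspace of dimension at most two is spanned by two elements. -/
theorem exists_pair_span {V : Type*} [AddCommGroup V] [Module k V] [FiniteDimensional k V]
    (S : Submodule k V) (h : finrank k S ≤ 2) :
    ∃ e₁ ∈ S, ∃ e₂ ∈ S, S ≤ Submodule.span k {e₁, e₂} := by
  classical
  let b := Module.finBasis k S
  let e : ℕ → V := fun i => if hi : i < finrank k S then (b ⟨i, hi⟩ : V) else 0
  have he : ∀ i, e i ∈ S := fun i => by
    by_cases hi : i < finrank k S <;> simp [e, hi]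
  refine ⟨e 0, he 0, e 1, he 1, fun v hv => ?_⟩
  have hb := congrArg Subtype.val (b.sum_repr ⟨v, hv⟩)
  simp only [Submodule.coe_sum, Submodule.coe_smul] at hb
  rw [← hb]
  refine Submodule.sum_mem _ fun i _ => Submodule.smul_mem _ _ (Submodule.subset_span ?_)
  have hi : e i.1 = (b i : V) := by simp [e, i.2]
  rcases Nat.lt_or_ge i.1 1 with h0 | h0
  · exact Or.inl (by rw [← hi, show i.1 = 0 by omega])
  · exact Or.inr (by rw [Set.mem_singleton_iff, ← hi, show i.1 = 1 by omega])

/-- Two elements spanning the pairs. -/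
theorem Frame.exists_two [FiniteDimensional k R] {t : R →ₗ[k] k} {J : Submodule k R} {L : ℕ}
    {x : Fin n → R} {c : Fin m → R} {π : R →ₗ[k] (Fin m → k)} (F : Frame t J L x c π) {j : ℕ}
    (hj : j + 3 = L) (h : finrank k ((J ^ j).map (formPair t x c)) ≤ 2) :
    ∃ w₁ ∈ J ^ j, ∃ w₂ ∈ J ^ j, ∀ w ∈ J ^ j, ∃ s₁ s₂ : k, ∀ y ∈ J ^ 3,
      t (y * w) = s₁ * t (y * w₁) + s₂ * t (y * w₂) := by
  obtain ⟨_, ⟨w₁, hw₁, rfl⟩, _, ⟨w₂, hw₂, rfl⟩, hsp⟩ := exists_pair_span _ h
  refine ⟨w₁, hw₁, w₂, hw₂, fun w hw => ?_⟩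
  obtain ⟨s₁, s₂, hs⟩ := Submodule.mem_span_pair.1 (hsp (Submodule.mem_map_of_mem hw))
  refine ⟨s₁, s₂, fun y hy => ?_⟩
  have h0 := F.orth_cube hj (w := w - (s₁ • w₁ + s₂ • w₂))
    (sub_mem hw (add_mem (Submodule.smul_mem _ _ hw₁) (Submodule.smul_mem _ _ hw₂))) (by
      rw [map_sub, map_add, map_smul, map_smul, hs, sub_self]; rfl) y hy
  rw [mul_sub, mul_add, mul_smul_comm, mul_smul_comm, map_sub, map_add, map_smul, map_smul,
    sub_eq_zero] at h0
  simpa using h0

end Cfsg.Lib.Block.Five
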