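import Mathlib

/-!
# Pairs of quadratic forms and trilinear identities
-/

set_option autoImplicit false
set_option linter.unusedSectionVars false

namespace Cfsg.Lib.Block.Five

open Module

variable {k : Type*} [Field k] {V : Type*} [AddCommGroup V] [Module k V]

/-- The product of two linear forms. -/
def prodForm (l m : V →ₗ[k] k) : V →ₗ[k] V →ₗ[k] k :=
  (LinearMap.mul k k).compl₁₂ l m

theorem prodForm_apply (l m : V →ₗ[k] k) (a b : V) : prodForm l m a b = l a * m b := rfl

/-- Two quadratic forms with product zero are not both nonzero. -/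
theorem diag_eq_zero_or [Infinite k] (B C : V →ₗ[k] V →ₗ[k] k)
    (h : ∀ a, B a a * C a a = 0) : (∀ a, B a a = 0) ∨ ∀ a, C a a = 0 := by
  open Polynomial in
  by_contra! hc
  obtain ⟨⟨a, ha⟩, b, hb⟩ := hc
  set P : k[X] := Polynomial.C (B a a) + Polynomial.C (B a b + B b a) * X +
    Polynomial.C (B b b) * X ^ 2 with hP
  set Q : k[X] := Polynomial.C (C a a) + Polynomial.C (C a b + C b a) * X +
    Polynomial.C (C b b) * X ^ 2 with hQ
  have hPQ : P * Q = 0 := by
    refine Polynomial.funext fun s => ?_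
    have h1 := h (a + s • b)
    simp only [map_add, map_smul, LinearMap.add_apply, LinearMap.smul_apply, smul_eq_mul] at h1
    simp only [hP, hQ, eval_mul, eval_add, eval_C, eval_X, eval_pow, eval_zero]
    linear_combination h1
  rcases mul_eq_zero.1 hPQ with h0 | h0
  · have := congrArg (fun p : k[X] => p.coeff 0) h0
    simp [hP] at this
    exact ha this
  · have := congrArg (fun p : k[X] => p.coeff 2) h0
    simp [hQ] at this
    exact hb this

/-- A linear form times a quadratic form. -/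
theorem lin_eq_zero_or [Infinite k] (l : V →ₗ[k] k) (B : V →ₗ[k] V →ₗ[k] k)
    (h : ∀ a, l a * B a a = 0) : l = 0 ∨ ∀ a, B a a = 0 := by
  refine (diag_eq_zero_or (prodForm l l) B fun a => ?_).imp (fun h0 => LinearMap.ext fun a => ?_) id
  · rw [prodForm_apply, mul_assoc, h, mul_zero]
  · simpa [prodForm_apply] using h0 a

/-- The linear syzygies of two independent quadratic forms form at most a line. -/
theorem finrank_syzygy_le_one [Infinite k] (B₁ B₂ : V →ₗ[k] V →ₗ[k] k)
    (hind : ∀ α β : k, (∀ a, α * B₁ a a + β * B₂ a a = 0) → α = 0 ∧ β = 0)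
    (S : Submodule k ((V →ₗ[k] k) × (V →ₗ[k] k)))
    (h : ∀ l ∈ S, ∀ a, l.1 a * B₁ a a + l.2 a * B₂ a a = 0) : finrank k S ≤ 1 := by
  by_cases hbot : S = ⊥
  · rw [hbot, finrank_bot]; exact Nat.zero_le _
  obtain ⟨l, hl, hl0⟩ := Submodule.exists_mem_ne_zero_of_ne_bot hbot
  obtain ⟨l₁, l₂⟩ := l
  have h₁ : ¬ ∀ a, B₁ a a = 0 := fun h0 => one_ne_zero (hind 1 0 fun a => by simp [h0 a]).1
  have h₂ : ¬ ∀ a, B₂ a a = 0 := fun h0 => one_ne_zero (hind 0 1 fun a => by simp [h0 a]).2
  have hnp : ∀ s : k, l₂ ≠ s • l₁ := by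
    intro s hs
    rcases lin_eq_zero_or l₁ (B₁ + s • B₂) (fun a => by
      have := h _ hl a
      simp only [hs, LinearMap.smul_apply, smul_eq_mul] at this
      simp only [LinearMap.add_apply, LinearMap.smul_apply, smul_eq_mul]
      linear_combination this) with h0 | h0
    · exact hl0 (by simp [hs, h0])
    · exact one_ne_zero (hind 1 s fun a => by simpa using h0 a).1
  have hl₁ : l₁ ≠ 0 := by
    intro h0
    rcases lin_eq_zero_or l₂ B₂ (fun a => by simpa [h0] using h _ hl a) with h3 | h3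
    · exact hl0 (by simp [h0, h3])
    · exact h₂ h3
  obtain ⟨a₁, ha₁⟩ : ∃ a, l₁ a = 1 := by
    obtain ⟨a, ha⟩ : ∃ a, l₁ a ≠ 0 := by
      by_contra! hc
      exact hl₁ (LinearMap.ext hc)
    exact ⟨(l₁ a)⁻¹ • a, by simp [ha]⟩
  obtain ⟨a₂, ha₂, ha₂'⟩ : ∃ a, l₁ a = 0 ∧ l₂ a ≠ 0 := by
    by_contra! hc
    refine hnp (l₂ a₁) (LinearMap.ext fun a => ?_)
    have := hc (a - l₁ a • a₁) (by simp [ha₁])
    simp only [map_sub, map_smul, smul_eq_mul] at this
    simp only [LinearMap.smul_apply, smul_eq_mul]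
    linear_combination this
  refine finrank_le_one (⟨(l₁, l₂), hl⟩ : S) fun m => ?_
  obtain ⟨⟨m₁, m₂⟩, hm⟩ := m
  have hD : ∀ a, l₁ a * m₂ a - l₂ a * m₁ a = 0 := by
    by_contra hc
    have key : ∀ B : V →ₗ[k] V →ₗ[k] k,
        (∀ a, (l₁ a * m₂ a - l₂ a * m₁ a) * B a a = 0) → ∀ a, B a a = 0 := fun B hB => by
      refine (diag_eq_zero_or (prodForm l₁ m₂ - prodForm l₂ m₁) B fun a => ?_).resolve_left ?_
      · simpa [prodForm_apply] using hB a
      · intro h0
        exact hc fun a => by simpa [prodForm_apply] using h0 a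
    exact h₁ (key B₁ fun a => by linear_combination m₂ a * h _ hl a - l₂ a * h _ hm a)
  have hker : ∀ a, l₁ a = 0 → m₁ a = 0 := by
    have aux : ∀ a, l₁ a = 0 → l₂ a ≠ 0 → m₁ a = 0 := fun a ha hb => by
      have h3 := hD a
      rw [ha, zero_mul, zero_sub, neg_eq_zero] at h3
      exact (mul_eq_zero.1 h3).resolve_left hb
    intro a ha
    by_cases hb : l₂ a = 0
    · have h3 := aux (a + a₂) (by simp [ha, ha₂]) (by simpa [hb] using ha₂')
      rw [map_add, aux a₂ ha₂ ha₂', add_zero] at h3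
      exact h3
    · exact aux a ha hb
  have hm₁ : m₁ = m₁ a₁ • l₁ := by
    refine LinearMap.ext fun a => ?_
    have h3 := hker (a - l₁ a • a₁) (by simp [ha₁])
    simp only [map_sub, map_smul, smul_eq_mul] at h3
    simp only [LinearMap.smul_apply, smul_eq_mul]
    linear_combination h3
  refine ⟨m₁ a₁, Subtype.ext (Prod.ext hm₁.symm ?_)⟩
  have h3 : ∀ a, (m₂ - m₁ a₁ • l₂) a * prodForm l₁ l₁ a a = 0 := fun a => by
    have h4 := hD a
    have h5 := LinearMap.congr_fun hm₁ a
    simp only [LinearMap.smul_apply, smul_eq_mul] at h5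
    simp only [LinearMap.sub_apply, LinearMap.smul_apply, smul_eq_mul, prodForm_apply]
    linear_combination l₁ a * h4 + l₁ a * l₂ a * h5
  rcases lin_eq_zero_or _ _ h3 with h4 | h4
  · exact (sub_eq_zero.1 h4).symm
  · exact absurd (LinearMap.ext fun a => by simpa [prodForm_apply] using h4 a) hl₁

section Trilinear

variable {W : Type*} [AddCommGroup W] [Module k W] {n : ℕ}
  {μ : W →ₗ[k] W →ₗ[k] (Fin n → k)} {u v : W →ₗ[k] (Fin n → k)}
  (h : ∀ a b c, u c ⬝ᵥ μ a b = v a ⬝ᵥ μ b c)
include h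

theorem tri_diag (a : W) : (u a - v a) ⬝ᵥ μ a a = 0 := by
  rw [sub_dotProduct, h, sub_self]

theorem tri_star (a b : W) :
    (u b - v b) ⬝ᵥ μ a a = (u a + v a) ⬝ᵥ (μ a b - μ b a) := by
  simp only [sub_dotProduct, add_dotProduct, dotProduct_sub]
  linear_combination h a a b + h b a a - h a b a

theorem tri_polar (a b : W) :
    (u b - v b) ⬝ᵥ μ a a + (u a - v a) ⬝ᵥ (μ a b + μ b a) = 0 := by
  simp only [sub_dotProduct, dotProduct_add]
  linear_combination h a a b + h b a a + h a b a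

theorem tri_full (a b c : W) :
    (u a - v a) ⬝ᵥ (μ b c + μ c b) + (u b - v b) ⬝ᵥ (μ a c + μ c a) +
      (u c - v c) ⬝ᵥ (μ a b + μ b a) = 0 := by
  simp only [sub_dotProduct, dotProduct_add]
  linear_combination h a b c + h a c b + h b a c + h b c a + h c a b + h c b a

end Trilinear

end Cfsg.Lib.Block.Five
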