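import Cfsg.Agent.Lib.Block.FiveChars.Quadratic

/-!
# Cyclic trilinear forms through a product on three dimensions

If the antisymmetric part of a bilinear product on `k³` is the cross product, the pairs `(u, v)`
with `u c · μ a b = v a · μ b c` form a space of dimension at most two, as soon as `u = v` forces
zero.
-/

set_option autoImplicit false
set_option linter.unusedSectionVars false
set_option maxHeartbeats 1000000

namespace Cfsg.Lib.Block.Five

open Module Matrix

variable {k : Type*} [Field k]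

/-- A linear condition on the pairs in a space. -/
theorem finrank_le_two_of_injective {S : Type*} [AddCommGroup S] [Module k S]
    (f g : S →ₗ[k] k) (h : ∀ p, f p = 0 → g p = 0 → p = 0) : finrank k S ≤ 2 := by
  have hi : Function.Injective (f.prod g) := by
    rw [injective_iff_map_eq_zero]
    intro p hp
    change (f p, g p) = 0 at hp
    rw [Prod.mk_eq_zero] at hp
    exact h p hp.1 hp.2
  simpa using LinearMap.finrank_le_finrank_of_injective hi

/-- A proper pair of coefficient equations leaves at most two parameters. -/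
theorem finrank_le_two_of_pair {S : Type*} [AddCommGroup S] [Module k S]
    (D : Fin 3 → Fin 3 → S →ₗ[k] k) (hD : ∀ p, (∀ i j, D i j p = 0) → p = 0)
    (hdiag : ∀ p i, D i i p = 0) (i j l : Fin 3) (hall : ∀ m, m = i ∨ m = j ∨ m = l)
    (α β γ ρ ρ' σ σ' : k) (h₁ : ∀ p, D i j p + α * D j i p + γ * D l i p = 0)
    (h₂ : ∀ p, D j i p + β * D i j p + γ * D l j p = 0)
    (h₃ : ∀ p, D i l p + ρ * D l i p + ρ' * D j i p = 0)
    (h₄ : ∀ p, D j l p + σ * D l j p + σ' * D i j p = 0) (hne : α * β ≠ 1 ∨ γ ≠ 0) :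
    finrank k S ≤ 2 := by
  have key : ∀ p, D i j p = 0 → D j i p = 0 → D l i p = 0 → D l j p = 0 → p = 0 := by
    intro p p1 p2 p3 p4
    have p5 : D i l p = 0 := by simpa [p2, p3] using h₃ p
    have p6 : D j l p = 0 := by simpa [p1, p4] using h₄ p
    refine hD p fun a b => ?_
    rcases hall a with rfl | rfl | rfl <;> rcases hall b with rfl | rfl | rfl <;>
      first | assumption | exact hdiag p _
  rcases hne with hne | hne
  · refine finrank_le_two_of_injective (D l i) (D l j) fun p p3 p4 => ?_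
    have e1 := h₁ p
    have e2 := h₂ p
    rw [p3, mul_zero, add_zero] at e1
    rw [p4, mul_zero, add_zero] at e2
    have p2 : D j i p = 0 := by
      refine (mul_eq_zero.1 (show (1 - α * β) * D j i p = 0 by linear_combination e2 - β * e1)
        ).resolve_left (sub_ne_zero.2 hne.symm)
    exact key p (by simpa [p2] using e1) p2 p3 p4
  · refine finrank_le_two_of_injective (D j i) (D l i) fun p p2 p3 => ?_
    have p1 : D i j p = 0 := by simpa [p2, p3] using h₁ p
    exact key p p1 p2 p3 (by simpa [p1, p2, hne] using h₂ p)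

variable {μ : (Fin 3 → k) →ₗ[k] (Fin 3 → k) →ₗ[k] (Fin 3 → k)} (hμ : ∀ a b, μ a b - μ b a = crossProduct a b)
  {S : Submodule k (((Fin 3 → k) →ₗ[k] (Fin 3 → k)) × ((Fin 3 → k) →ₗ[k] (Fin 3 → k)))}
  (hS : ∀ p ∈ S, ∀ a b c, p.1 c ⬝ᵥ μ a b = p.2 a ⬝ᵥ μ b c)
  (hinj : ∀ p ∈ S, p.1 = p.2 → p = 0)
include hμ hS hinj

/-- The pairs orthogonal to all squares form at most a line. -/
theorem finrank_flat_le {T : Submodule k (((Fin 3 → k) →ₗ[k] (Fin 3 → k)) × ((Fin 3 → k) →ₗ[k] (Fin 3 → k)))} (hT : T ≤ S)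
    (hflat : ∀ p ∈ T, ∀ a b, (p.1 b - p.2 b) ⬝ᵥ μ a a = 0) : finrank k T ≤ 1 := by
  let e : Fin 3 → (Fin 3 → k) := fun i => Pi.single i 1
  let f : T →ₗ[k] k :=
    { toFun := fun p => (p.1.1 (e 0) + p.1.2 (e 0)) 0
      map_add' := fun p q => by simp; abel
      map_smul' := fun r p => by simp; ring }
  have hi : Function.Injective f := by
    rw [injective_iff_map_eq_zero]
    rintro ⟨⟨u, v⟩, hp⟩ h0
    have h := hS _ (hT hp)
    have hc : ∀ a b, (u + v) a ⬝ᵥ crossProduct a b = 0 := fun a b => by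
      rw [← hμ, LinearMap.add_apply, ← tri_star h a b]
      exact hflat _ hp a b
    have h00 : (u + v) (e 0) 0 = 0 := h0
    have hT0 : u + v = 0 := by
      generalize u + v = T at hc h00
      have c01 : crossProduct (e 0) (e 1) = e 2 := by
        ext i; fin_cases i <;> simp [e, cross_apply]
      have c12 : crossProduct (e 1) (e 2) = e 0 := by
        ext i; fin_cases i <;> simp [e, cross_apply]
      have c20 : crossProduct (e 2) (e 0) = e 1 := by
        ext i; fin_cases i <;> simp [e, cross_apply]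
      have hd : ∀ a i, T a ⬝ᵥ e i = T a i := fun a i => by simp [e, dotProduct_single]
      have hneg : ∀ a b, T a ⬝ᵥ crossProduct b a = 0 := fun a b => by
        rw [← cross_anticomm, dotProduct_neg, hc, neg_zero]
      have o02 : T (e 0) 2 = 0 := by rw [← hd, ← c01]; exact hc _ _
      have o12 : T (e 1) 2 = 0 := by rw [← hd, ← c01]; exact hneg _ _
      have o10 : T (e 1) 0 = 0 := by rw [← hd, ← c12]; exact hc _ _
      have o20 : T (e 2) 0 = 0 := by rw [← hd, ← c12]; exact hneg _ _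
      have o21 : T (e 2) 1 = 0 := by rw [← hd, ← c20]; exact hc _ _
      have o01 : T (e 0) 1 = 0 := by rw [← hd, ← c20]; exact hneg _ _
      have o11 : T (e 1) 1 = 0 := by
        have h1 := hc (e 0 + e 1) (e 2)
        rw [map_add T, map_add crossProduct, LinearMap.add_apply, c12, ← cross_anticomm (e 2),
          c20] at h1
        simp only [add_dotProduct, dotProduct_add, dotProduct_neg, hd] at h1
        linear_combination -h1 - o01 + o10 + h00
      have o22 : T (e 2) 2 = 0 := by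
        have h1 := hc (e 1 + e 2) (e 0)
        rw [map_add T, map_add crossProduct, LinearMap.add_apply, c20, ← cross_anticomm (e 0),
          c01] at h1
        simp only [add_dotProduct, dotProduct_add, dotProduct_neg, hd] at h1
        linear_combination -h1 - o12 + o21 + o11
      refine (Pi.basisFun k (Fin 3)).ext fun i => funext fun m => ?_
      rw [Pi.basisFun_apply, LinearMap.zero_apply, Pi.zero_apply]
      fin_cases i <;> fin_cases m <;> assumption
    have hv : ∀ a, v a = -u a := fun a => by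
      have := LinearMap.congr_fun hT0 a
      rw [LinearMap.add_apply, LinearMap.zero_apply] at this
      exact eq_neg_of_add_eq_zero_right this
    refine Subtype.ext (hinj _ (hT hp) ?_)
    have hrot : ∀ a b c, u c ⬝ᵥ μ a b = -(u a ⬝ᵥ μ b c) := fun a b c => by
      have := h a b c
      simp only [hv, neg_dotProduct] at this
      exact this
    by_cases h2 : (2 : k) = 0
    · refine LinearMap.ext fun a => funext fun i => ?_
      simp only [hv, Pi.neg_apply]
      linear_combination u a i * h2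
    · have h3 : ∀ a b c, u c ⬝ᵥ μ a b = 0 := fun a b c => by
        refine (mul_eq_zero.1 (show (2 : k) * (u c ⬝ᵥ μ a b) = 0 by
          linear_combination hrot a b c - hrot b c a + hrot c a b)).resolve_left h2
      have h4 : u = 0 := by
        refine LinearMap.ext fun c => ?_
        have h5 : ∀ a b, u c ⬝ᵥ crossProduct a b = 0 := fun a b => by
          rw [← hμ, dotProduct_sub, h3, h3, sub_zero]
        have x0 := h5 (e 1) (e 2); have x1 := h5 (e 2) (e 0); have x2 := h5 (e 0) (e 1)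
        simp [e, crossProduct, dotProduct, Fin.sum_univ_three] at x0 x1 x2
        funext i
        fin_cases i <;> simp [x0, x1, x2]
      refine LinearMap.ext fun a => ?_
      simp [hv, h4]
  simpa using LinearMap.finrank_le_finrank_of_injective hi

/-- The case of dependent squares. -/
theorem finrank_le_two_of_small [Infinite k] {e₁ e₂ : (Fin 3 → k)}
    (hq : ∀ a, μ a a ∈ Submodule.span k {e₁, e₂}) : finrank k S ≤ 2 := by
  by_cases hline : ∃ e : (Fin 3 → k), ∀ a, μ a a ∈ k ∙ e
  · obtain ⟨e, he⟩ := hline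
    refine (finrank_flat_le hμ hS hinj le_rfl fun p hp a b => ?_).trans (by norm_num)
    obtain ⟨r, hr⟩ := Submodule.mem_span_singleton.1 (he a)
    rw [← hr, dotProduct_smul]
    rcases eq_or_ne r 0 with rfl | hr0
    · exact zero_smul k _
    suffices (p.1 b - p.2 b) ⬝ᵥ e = 0 by rw [this, smul_zero]
    rcases eq_or_ne e 0 with rfl | he0
    · exact dotProduct_zero _
    obtain ⟨i, hi⟩ := Function.ne_iff.1 he0
    rw [Pi.zero_apply] at hi
    let B : (Fin 3 → k) →ₗ[k] (Fin 3 → k) →ₗ[k] k := μ.compr₂ (LinearMap.proj i)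
    let l : (Fin 3 → k) →ₗ[k] k :=
      { toFun := fun x => (p.1 x - p.2 x) ⬝ᵥ e
        map_add' := fun x y => by simp [sub_dotProduct, add_dotProduct]; ring
        map_smul' := fun r x => by simp [sub_dotProduct, smul_dotProduct]; ring }
    have hlB : ∀ x, l x * B x x = 0 := fun x => by
      obtain ⟨s, hs⟩ := Submodule.mem_span_singleton.1 (he x)
      have h1 := tri_diag (hS p hp) x
      rw [← hs, dotProduct_smul, smul_eq_mul] at h1
      simp only [B, LinearMap.compr₂_apply, ← hs, LinearMap.proj_apply, Pi.smul_apply, smul_eq_mul]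
      show (p.1 x - p.2 x) ⬝ᵥ e * (s * e i) = 0
      linear_combination e i * h1
    rcases lin_eq_zero_or l B hlB with h0 | h0
    · exact LinearMap.congr_fun h0 b
    · have h1 := h0 a
      simp [B, ← hr, hr0, hi] at h1
  push Not at hline
  -- coordinates
  have hlin : LinearMap.ker (Fintype.linearCombination k ![e₁, e₂]) = ⊥ := by
    rw [LinearMap.ker_eq_bot']
    intro c hc
    simp [Fintype.linearCombination_apply, Fin.sum_univ_two] at hc
    by_contra hc0
    obtain ⟨e, he⟩ : ∃ e, e₁ ∈ k ∙ e ∧ e₂ ∈ k ∙ e := by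
      by_cases h0 : c 0 = 0
      · have h1 : c 1 ≠ 0 := fun h1 => hc0 (funext fun i => by fin_cases i <;> assumption)
        rw [h0, zero_smul, zero_add, smul_eq_zero] at hc
        exact ⟨e₁, Submodule.mem_span_singleton_self _, by
          rw [hc.resolve_left h1]; exact zero_mem _⟩
      · refine ⟨e₂, ?_, Submodule.mem_span_singleton_self _⟩
        rw [Submodule.mem_span_singleton]
        exact ⟨-(c 1 / c 0), by
          refine smul_right_injective (Fin 3 → k) h0 ?_
          show c 0 • _ = c 0 • e₁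
          rw [eq_neg_of_add_eq_zero_left hc, smul_smul, mul_neg, mul_div_cancel₀ _ h0, neg_smul]⟩
    obtain ⟨a, ha⟩ := hline e
    exact ha (Submodule.span_le.2 (Set.insert_subset he.1 (Set.singleton_subset_iff.2 he.2)) (hq a))
  obtain ⟨π, hπ⟩ := LinearMap.exists_leftInverse_of_injective _ hlin
  let B₁ : (Fin 3 → k) →ₗ[k] (Fin 3 → k) →ₗ[k] k := μ.compr₂ ((LinearMap.proj 0).comp π)
  let B₂ : (Fin 3 → k) →ₗ[k] (Fin 3 → k) →ₗ[k] k := μ.compr₂ ((LinearMap.proj 1).comp π)
  have hdec : ∀ a, μ a a = B₁ a a • e₁ + B₂ a a • e₂ := fun a => by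
    obtain ⟨r, s, hrs⟩ := Submodule.mem_span_pair.1 (hq a)
    have h1 := LinearMap.congr_fun hπ ![r, s]
    rw [LinearMap.comp_apply, LinearMap.id_apply] at h1
    simp [Fintype.linearCombination_apply, Fin.sum_univ_two, hrs] at h1
    simp [B₁, B₂, h1, hrs]
  have hind : ∀ α β : k, (∀ a, α * B₁ a a + β * B₂ a a = 0) → α = 0 ∧ β = 0 := by
    intro α β hab
    by_contra hne
    rcases eq_or_ne α 0 with rfl | hα
    · obtain ⟨a, ha⟩ := hline e₁
      have hβ : β ≠ 0 := fun h => hne ⟨rfl, h⟩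
      have := hab a
      simp [hβ] at this
      exact ha (Submodule.mem_span_singleton.2 ⟨B₁ a a, by rw [hdec a, this, zero_smul, add_zero]⟩)
    · obtain ⟨a, ha⟩ := hline (e₂ - (β / α) • e₁)
      refine ha (Submodule.mem_span_singleton.2 ⟨B₂ a a, ?_⟩)
      have hB : B₁ a a = -(B₂ a a * (β / α)) := by
        field_simp
        linear_combination hab a
      rw [hdec a, hB, smul_sub, smul_smul, neg_smul]
      abel
  let L : (Fin 3 → k) → S → (Fin 3 → k) →ₗ[k] k := fun e p =>
    { toFun := fun x => (p.1.1 x - p.1.2 x) ⬝ᵥ e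
      map_add' := fun x y => by simp [sub_dotProduct, add_dotProduct]; ring
      map_smul' := fun r x => by simp [sub_dotProduct, smul_dotProduct]; ring }
  let F : S →ₗ[k] ((Fin 3 → k) →ₗ[k] k) × ((Fin 3 → k) →ₗ[k] k) :=
    { toFun := fun p => (L e₁ p, L e₂ p)
      map_add' := fun p q => Prod.ext (LinearMap.ext fun x => by
          simp [L, sub_dotProduct, add_dotProduct]; ring) (LinearMap.ext fun x => by
          simp [L, sub_dotProduct, add_dotProduct]; ring)
      map_smul' := fun r p => Prod.ext (LinearMap.ext fun x => by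
          simp [L, sub_dotProduct, smul_dotProduct]; ring) (LinearMap.ext fun x => by
          simp [L, sub_dotProduct, smul_dotProduct]; ring) }
  have hF : ∀ (p : S) (a : (Fin 3 → k)), (F p).1 a = (p.1.1 a - p.1.2 a) ⬝ᵥ e₁ ∧
      (F p).2 a = (p.1.1 a - p.1.2 a) ⬝ᵥ e₂ := fun p a => ⟨rfl, rfl⟩
  have h1 : finrank k (LinearMap.range F) ≤ 1 := by
    refine finrank_syzygy_le_one B₁ B₂ hind _ ?_
    rintro _ ⟨p, rfl⟩ a
    have h2 := tri_diag (hS p.1 p.2) a
    rw [hdec a, dotProduct_add, dotProduct_smul, dotProduct_smul, smul_eq_mul, smul_eq_mul] at h2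
    rw [(hF p a).1, (hF p a).2]
    linear_combination h2
  have h2 : finrank k (LinearMap.ker F) ≤ 1 := by
    rw [← Submodule.finrank_map_subtype_eq S (LinearMap.ker F)]
    refine finrank_flat_le hμ hS hinj (Submodule.map_subtype_le _ _) ?_
    rintro _ ⟨p, hp, rfl⟩ a b
    have hp0 : F p = 0 := hp
    have e1 : (p.1.1 b - p.1.2 b) ⬝ᵥ e₁ = 0 := by rw [← (hF p b).1, hp0]; rfl
    have e2 : (p.1.1 b - p.1.2 b) ⬝ᵥ e₂ = 0 := by rw [← (hF p b).2, hp0]; rfl
    rw [hdec a, dotProduct_add, dotProduct_smul, dotProduct_smul, Submodule.subtype_apply, e1, e2,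
      smul_zero, smul_zero, add_zero]
  have h3 := LinearMap.finrank_range_add_finrank_ker (V := ↥S) F
  omega

omit hμ hS hinj in
/-- Squares which are not contained in a plane contain those of a basis, forming a basis. -/
theorem exists_basis_squares [Infinite k]
    (hsmall : ∀ e₁ e₂ : (Fin 3 → k), ∃ a, μ a a ∉ Submodule.span k {e₁, e₂}) :
    ∃ A : Fin 3 → Fin 3 → k, LinearIndependent k A ∧
      LinearIndependent k fun i => μ (A i) (A i) := by
  -- three vectors with independent squares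
  obtain ⟨a₀, h₀⟩ := hsmall 0 0
  obtain ⟨a₁, h₁⟩ := hsmall (μ a₀ a₀) 0
  obtain ⟨a₂, h₂, h₂'⟩ : ∃ a, μ a a ∉ Submodule.span k {μ a₀ a₀, μ a₁ a₁} ∧
      a ∉ Submodule.span k {a₀, a₁} := by
    set P := Submodule.span k {μ a₀ a₀, μ a₁ a₁} with hP
    set U := Submodule.span k {a₀, a₁} with hU
    by_contra! hc
    obtain ⟨a, ha⟩ := hsmall (μ a₀ a₀) (μ a₁ a₁)
    obtain ⟨a', ha'⟩ : ∃ a', a' ∉ U := by
      by_contra! hall
      have h1 : (⊤ : Submodule k (Fin 3 → k)) ≤ U := fun x _ => hall x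
      have h2 := Submodule.finrank_mono h1
      rw [finrank_top, Module.finrank_fin_fun] at h2
      have h3 : finrank k U ≤ 2 := by
        classical
        have h4 := finrank_span_finset_le_card (R := k) ({a₀, a₁} : Finset (Fin 3 → k))
        simp only [Finset.coe_insert, Finset.coe_singleton] at h4
        exact h4.trans Finset.card_le_two
      omega
    have haU : a ∈ U := hc a ha
    obtain ⟨r, hr⟩ := Infinite.exists_notMem_finset (α := k) (by classical exact {0, 1})
    simp at hr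
    have hmem : ∀ s : k, s ≠ 0 → μ a a + s • (μ a a' + μ a' a) ∈ P := fun s hs => by
      have hout : ∀ x, x ∉ U → μ x x ∈ P := fun x hx => by
        by_contra hxP
        exact hx (hc x hxP)
      have h1 : a + s • a' ∉ U := fun hin => ha' (by
        simpa [smul_smul, hs] using U.smul_mem s⁻¹ (sub_mem hin haU))
      have h2 := sub_mem (hout _ h1) (P.smul_mem (s * s) (hout a' ha'))
      convert h2 using 1
      simp only [map_add, map_smul, LinearMap.add_apply, LinearMap.smul_apply]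
      module
    have h1 := sub_mem (P.smul_mem r (hmem 1 one_ne_zero)) (hmem r hr.1)
    have h2 : r • (μ a a + (1 : k) • (μ a a' + μ a' a)) - (μ a a + r • (μ a a' + μ a' a)) =
        (r - 1) • μ a a := by module
    rw [h2] at h1
    refine ha ?_
    simpa [smul_smul, sub_ne_zero.2 hr.2] using P.smul_mem (r - 1)⁻¹ h1
  let A : Fin 3 → Fin 3 → k := ![a₀, a₁, a₂]
  let q : Fin 3 → Fin 3 → k := fun i => μ (A i) (A i)
  have hqi : LinearIndependent k q := by
    rw [show q = ![μ a₀ a₀, μ a₁ a₁, μ a₂ a₂] by funext i; fin_cases i <;> rfl]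
    rw [Submodule.span_insert_zero, Submodule.span_singleton_eq_bot.2 rfl, Submodule.mem_bot] at h₀
    rw [Set.pair_comm, Submodule.span_insert_zero] at h₁
    have hli : LinearIndependent k ![μ a₀ a₀, μ a₁ a₁] := by
      rw [LinearIndependent.pair_iff' h₀]
      exact fun r hr => h₁ (Submodule.mem_span_singleton.2 ⟨r, hr⟩)
    rw [Fintype.linearIndependent_iff]
    intro g hg
    simp [Fin.sum_univ_three] at hg
    have hg2 : g 2 = 0 := by
      by_contra hne
      refine h₂ ?_
      have e : μ a₂ a₂ = (-(g 2)⁻¹ * g 0) • μ a₀ a₀ + (-(g 2)⁻¹ * g 1) • μ a₁ a₁ := by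
        refine smul_right_injective (Fin 3 → k) hne ?_
        simp only [smul_add, smul_smul, ← mul_assoc, mul_neg, mul_inv_cancel₀ hne]
        linear_combination (norm := module) hg
      rw [e]
      exact Submodule.mem_span_pair.2 ⟨_, _, rfl⟩
    have h3 := LinearIndependent.pair_iff.1 hli (g 0) (g 1) (by simpa [hg2] using hg)
    intro i
    fin_cases i
    · exact h3.1
    · exact h3.2
    · exact hg2
  have hAi : LinearIndependent k A := by
    have h01 : ∀ r : k, r • a₀ ≠ a₁ := by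
      intro r hr
      rw [Set.pair_comm, Submodule.span_insert_zero] at h₁
      refine h₁ (Submodule.mem_span_singleton.2 ⟨r * r, ?_⟩)
      rw [← hr]
      simp [smul_smul]
    have h0 : a₀ ≠ 0 := fun h0 => hqi.ne_zero 0 (by simp [q, A, h0])
    have hli : LinearIndependent k ![a₀, a₁] := (LinearIndependent.pair_iff' h0).2 h01
    rw [Fintype.linearIndependent_iff]
    intro g hg
    simp [A, Fin.sum_univ_three] at hg
    have hg2 : g 2 = 0 := by
      by_contra hne
      refine h₂' ?_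
      have e : a₂ = (-(g 2)⁻¹ * g 0) • a₀ + (-(g 2)⁻¹ * g 1) • a₁ := by
        refine smul_right_injective (Fin 3 → k) hne ?_
        simp only [smul_add, smul_smul, ← mul_assoc, mul_neg, mul_inv_cancel₀ hne]
        linear_combination (norm := module) hg
      rw [e]
      exact Submodule.mem_span_pair.2 ⟨_, _, rfl⟩
    have h3 := LinearIndependent.pair_iff.1 hli (g 0) (g 1) (by simpa [hg2] using hg)
    intro i
    fin_cases i
    · exact h3.1
    · exact h3.2
    · exact hg2
  exact ⟨A, hAi, hqi⟩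

/-- The case of independent squares. -/
theorem finrank_le_two_of_basis (A : Fin 3 → Fin 3 → k) (hAi : LinearIndependent k A)
    (hqi : LinearIndependent k fun i => μ (A i) (A i)) : finrank k S ≤ 2 := by
  by_contra! hbig
  let q : Fin 3 → Fin 3 → k := fun i => μ (A i) (A i)
  -- coordinates with respect to the squares
  let bq := basisOfLinearIndependentOfCardEqFinrank (b := q) hqi (by simp)
  let bA := basisOfLinearIndependentOfCardEqFinrank hAi (by simp)
  have hbq : ∀ i, bq i = q i := fun i => by simp [bq]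
  have hbA : ∀ i, bA i = A i := fun i => by simp [bA]
  let D : Fin 3 → Fin 3 → S →ₗ[k] k := fun i j =>
    { toFun := fun p => (p.1.1 (A j) - p.1.2 (A j)) ⬝ᵥ q i
      map_add' := fun x y => by simp [sub_dotProduct, add_dotProduct]; ring
      map_smul' := fun r x => by simp [sub_dotProduct, smul_dotProduct]; ring }
  have hDapp : ∀ i j p, D i j p = (p.1.1 (A j) - p.1.2 (A j)) ⬝ᵥ q i := fun i j p => rfl
  have hdot : ∀ w : Fin 3 → k, (∀ i, w ⬝ᵥ q i = 0) → w = 0 := by
    intro w hw
    refine dotProduct_eq_zero w fun x => ?_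
    rw [← bq.sum_repr x, dotProduct_sum]
    refine Finset.sum_eq_zero fun i _ => ?_
    rw [dotProduct_smul, hbq, hw i, smul_zero]
  have hD0 : ∀ p, (∀ i j, D i j p = 0) → p = 0 := by
    intro p hp
    refine Subtype.ext (hinj _ p.2 (bA.ext fun j => ?_))
    rw [hbA]
    exact sub_eq_zero.1 (hdot _ fun i => hp i j)
  have hdiag : ∀ p i, D i i p = 0 := fun p i => tri_diag (hS p.1 p.2) (A i)
  let Γ : Fin 3 → Fin 3 → Fin 3 → k := fun i j m => bq.repr (μ (A i) (A j) + μ (A j) (A i)) m
  have hΓ : ∀ i j, μ (A i) (A j) + μ (A j) (A i) = Γ i j 0 • q 0 + Γ i j 1 • q 1 + Γ i j 2 • q 2 :=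
    fun i j => by
      conv_lhs => rw [← bq.sum_repr (μ (A i) (A j) + μ (A j) (A i))]
      simp [Fin.sum_univ_three, hbq, Γ]
  have hE : ∀ i j p, D i j p + (Γ i j 0 * D 0 i p + Γ i j 1 * D 1 i p + Γ i j 2 * D 2 i p) = 0 := by
    intro i j p
    have h1 := tri_polar (hS p.1 p.2) (A i) (A j)
    rw [hΓ] at h1
    simp only [dotProduct_add, dotProduct_smul, smul_eq_mul, ← hDapp] at h1
    exact h1
  have hE' : ∀ i j p, D j i p + (Γ i j 0 * D 0 j p + Γ i j 1 * D 1 j p + Γ i j 2 * D 2 j p) = 0 := by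
    intro i j p
    have h1 := tri_polar (hS p.1 p.2) (A j) (A i)
    rw [add_comm (μ (A j) (A i)), hΓ] at h1
    simp only [dotProduct_add, dotProduct_smul, smul_eq_mul, ← hDapp] at h1
    exact h1
  have hd00 := fun p => hdiag p 0
  have hd11 := fun p => hdiag p 1
  have hd22 := fun p => hdiag p 2
  have c01 : Γ 0 1 1 * Γ 0 1 0 = 1 ∧ Γ 0 1 2 = 0 := by
    by_contra hne
    refine absurd (finrank_le_two_of_pair (S := ↥S) D hD0 hdiag 0 1 2 (by decide) (Γ 0 1 1) (Γ 0 1 0)
      (Γ 0 1 2) (Γ 0 2 2) (Γ 0 2 1) (Γ 1 2 2) (Γ 1 2 0) ?_ ?_ ?_ ?_ (by tauto)) (by omega) <;>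
      intro p
    · linear_combination hE 0 1 p - Γ 0 1 0 * hd00 p
    · linear_combination hE' 0 1 p - Γ 0 1 1 * hd11 p
    · linear_combination hE 0 2 p - Γ 0 2 0 * hd00 p
    · linear_combination hE 1 2 p - Γ 1 2 1 * hd11 p
  have c02 : Γ 0 2 2 * Γ 0 2 0 = 1 ∧ Γ 0 2 1 = 0 := by
    by_contra hne
    refine absurd (finrank_le_two_of_pair (S := ↥S) D hD0 hdiag 0 2 1 (by decide) (Γ 0 2 2) (Γ 0 2 0)
      (Γ 0 2 1) (Γ 0 1 1) (Γ 0 1 2) (Γ 1 2 1) (Γ 1 2 0) ?_ ?_ ?_ ?_ (by tauto)) (by omega) <;>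
      intro p
    · linear_combination hE 0 2 p - Γ 0 2 0 * hd00 p
    · linear_combination hE' 0 2 p - Γ 0 2 2 * hd22 p
    · linear_combination hE 0 1 p - Γ 0 1 0 * hd00 p
    · linear_combination hE' 1 2 p - Γ 1 2 2 * hd22 p
  have c12 : Γ 1 2 2 * Γ 1 2 1 = 1 ∧ Γ 1 2 0 = 0 := by
    by_contra hne
    refine absurd (finrank_le_two_of_pair (S := ↥S) D hD0 hdiag 1 2 0 (by decide) (Γ 1 2 2) (Γ 1 2 1)
      (Γ 1 2 0) (Γ 0 1 0) (Γ 0 1 2) (Γ 0 2 0) (Γ 0 2 1) ?_ ?_ ?_ ?_ (by tauto)) (by omega) <;>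
      intro p
    · linear_combination hE 1 2 p - Γ 1 2 1 * hd11 p
    · linear_combination hE' 1 2 p - Γ 1 2 2 * hd22 p
    · linear_combination hE' 0 1 p - Γ 0 1 1 * hd11 p
    · linear_combination hE' 0 2 p - Γ 0 2 2 * hd22 p
  have e01 : ∀ p, D 0 1 p = -(Γ 0 1 1 * D 1 0 p) := fun p => by
    linear_combination hE 0 1 p - Γ 0 1 0 * hd00 p - D 2 0 p * c01.2
  have e02 : ∀ p, D 0 2 p = -(Γ 0 2 2 * D 2 0 p) := fun p => by
    linear_combination hE 0 2 p - Γ 0 2 0 * hd00 p - D 1 0 p * c02.2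
  have e12 : ∀ p, D 1 2 p = -(Γ 1 2 2 * D 2 1 p) := fun p => by
    linear_combination hE 1 2 p - Γ 1 2 1 * hd11 p - D 0 1 p * c12.2
  -- three free parameters
  let proj3 : S →ₗ[k] Fin 3 → k := LinearMap.pi ![D 1 0, D 2 0, D 2 1]
  have hinj3 : Function.Injective proj3 := by
    rw [injective_iff_map_eq_zero]
    intro p hp
    have p10 : D 1 0 p = 0 := congrFun hp 0
    have p20 : D 2 0 p = 0 := congrFun hp 1
    have p21 : D 2 1 p = 0 := congrFun hp 2
    refine hD0 p fun i j => ?_
    fin_cases i <;> fin_cases j <;> simp [hdiag, p10, p20, p21, e01, e02, e12]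
  have hsurj : Function.Surjective proj3 := by
    rw [← LinearMap.range_eq_top]
    refine Submodule.eq_top_of_finrank_eq ?_
    rw [LinearMap.finrank_range_of_inj hinj3, Module.finrank_fin_fun]
    refine le_antisymm ?_ hbig
    simpa using LinearMap.finrank_le_finrank_of_injective hinj3
  have hex : ∀ r s w : k, ∃ p, D 1 0 p = r ∧ D 2 0 p = s ∧ D 2 1 p = w := fun r s w => by
    obtain ⟨p, hp⟩ := hsurj ![r, s, w]
    exact ⟨p, congrFun hp 0, congrFun hp 1, congrFun hp 2⟩
  -- the mixed identity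
  have hmix : ∀ p, Γ 1 2 1 * D 1 0 p + Γ 1 2 2 * D 2 0 p +
      Γ 0 2 0 * D 0 1 p + Γ 0 2 2 * D 2 1 p + Γ 0 1 0 * D 0 2 p + Γ 0 1 1 * D 1 2 p = 0 := by
    intro p
    have h1 := tri_full (hS p.1 p.2) (A 0) (A 1) (A 2)
    rw [hΓ, hΓ, hΓ] at h1
    simp only [dotProduct_add, dotProduct_smul, smul_eq_mul, ← hDapp] at h1
    linear_combination h1 - D 0 0 p * c12.2 - D 1 1 p * c02.2 - D 2 2 p * c01.2
  have r1 : Γ 1 2 1 = Γ 0 1 1 * Γ 0 2 0 := by
    obtain ⟨p, p1, p2, p3⟩ := hex 1 0 0
    have h1 := hmix p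
    rw [e01, e02, e12, p1, p2, p3] at h1
    linear_combination h1
  have r2 : Γ 1 2 2 = Γ 0 1 0 * Γ 0 2 2 := by
    obtain ⟨p, p1, p2, p3⟩ := hex 0 1 0
    have h1 := hmix p
    rw [e01, e02, e12, p1, p2, p3] at h1
    linear_combination h1
  -- two vectors with square zero
  set a : Fin 3 → k := (-Γ 0 1 0) • A 0 + A 1 with ha
  set b : Fin 3 → k := (-Γ 0 2 0) • A 0 + A 2 with hb
  have g01 := hΓ 0 1
  have g02 := hΓ 0 2
  have g12 := hΓ 1 2
  rw [c01.2, zero_smul, add_zero] at g01
  rw [c02.2, zero_smul, add_zero] at g02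
  rw [c12.2, zero_smul, zero_add] at g12
  have haa : μ a a = 0 := by
    rw [ha]
    simp only [map_add, map_smul, LinearMap.add_apply, LinearMap.smul_apply]
    have h2 : (Γ 0 1 0 * Γ 0 1 1) • q 1 = q 1 := by rw [mul_comm, c01.1, one_smul]
    linear_combination (norm := (simp only [q]; module)) (-Γ 0 1 0) • g01 - h2
  have hbb : μ b b = 0 := by
    rw [hb]
    simp only [map_add, map_smul, LinearMap.add_apply, LinearMap.smul_apply]
    have h2 : (Γ 0 2 0 * Γ 0 2 2) • q 2 = q 2 := by rw [mul_comm, c02.1, one_smul]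
    linear_combination (norm := (simp only [q]; module)) (-Γ 0 2 0) • g02 - h2
  have hab : μ a b + μ b a = 0 := by
    rw [ha, hb]
    simp only [map_add, map_smul, LinearMap.add_apply, LinearMap.smul_apply]
    rw [r1, r2] at g12
    linear_combination (norm := (simp only [q]; module))
      (-Γ 0 2 0) • g01 + (-Γ 0 1 0) • g02 + g12
  have hne : μ a b ≠ 0 := by
    intro h0
    have h1 : crossProduct a b = 0 := by
      rw [← hμ, h0, zero_sub, neg_eq_zero]
      simpa [h0] using hab
    refine absurd h1 (crossProduct_ne_zero_iff_linearIndependent.2 ?_)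
    rw [LinearIndependent.pair_iff]
    intro s s' hss
    have h2 := Fintype.linearIndependent_iff.1 hAi
      ![-(s * Γ 0 1 0) - s' * Γ 0 2 0, s, s'] (by
        rw [ha, hb] at hss
        simp [Fin.sum_univ_three]
        linear_combination (norm := module) hss)
    exact ⟨h2 1, h2 2⟩
  -- the product of the two is orthogonal to everything
  let m : Fin 3 → k := fun i => bq.repr (μ a b) i
  have hm : μ a b = m 0 • q 0 + m 1 • q 1 + m 2 • q 2 := by
    conv_lhs => rw [← bq.sum_repr (μ a b)]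
    simp [Fin.sum_univ_three, hbq, m]
  have hba : μ b a = -μ a b := eq_neg_of_add_eq_zero_right hab
  have horth : ∀ p : S, (p.1.1 a - p.1.2 a) ⬝ᵥ μ a b = 0 ∧ (p.1.1 b - p.1.2 b) ⬝ᵥ μ a b = 0 := by
    intro p
    have h1 := hS p.1 p.2 a a b
    have h2 := hS p.1 p.2 a b a
    have h3 := hS p.1 p.2 a b b
    have h4 := hS p.1 p.2 b a b
    simp only [haa, hbb, hba, dotProduct_zero, dotProduct_neg] at h1 h2 h3 h4
    simp only [sub_dotProduct]
    exact ⟨by linear_combination h2 + 2 * h1, by linear_combination 2 * h3 + (-1) * (-1) * h4⟩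
  have hm' : ∀ p : S, (-Γ 0 1 0) * (m 1 * D 1 0 p + m 2 * D 2 0 p) - m 0 * (Γ 0 1 1 * D 1 0 p)
        + m 2 * D 2 1 p = 0 ∧
      (-Γ 0 2 0) * (m 1 * D 1 0 p + m 2 * D 2 0 p) - m 0 * (Γ 0 2 2 * D 2 0 p)
        - m 1 * (Γ 1 2 2 * D 2 1 p) = 0 := by
    intro p
    obtain ⟨h1, h2⟩ := horth p
    rw [hm, ha] at h1
    rw [hm, hb] at h2
    simp only [map_add, map_smul, sub_dotProduct, add_dotProduct, smul_dotProduct, dotProduct_add,
      dotProduct_smul, smul_eq_mul] at h1 h2
    have d := fun i j => hDapp i j p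
    simp only [sub_dotProduct] at d
    refine ⟨?_, ?_⟩
    · linear_combination h1 + (m 0 * Γ 0 1 0) * hd00 p - m 1 * hd11 p - m 0 * e01 p
        - (Γ 0 1 0 * m 0) * d 0 0 - (Γ 0 1 0 * m 1) * d 1 0 - (Γ 0 1 0 * m 2) * d 2 0
        + m 0 * d 0 1 + m 1 * d 1 1 + m 2 * d 2 1
    · linear_combination h2 + (m 0 * Γ 0 2 0) * hd00 p - m 2 * hd22 p - m 0 * e02 p - m 1 * e12 p
        - (Γ 0 2 0 * m 0) * d 0 0 - (Γ 0 2 0 * m 1) * d 1 0 - (Γ 0 2 0 * m 2) * d 2 0
        + m 0 * d 0 2 + m 1 * d 1 2 + m 2 * d 2 2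
  have hα01 : Γ 0 1 1 ≠ 0 := left_ne_zero_of_mul_eq_one c01.1
  have hα12 : Γ 1 2 2 ≠ 0 := left_ne_zero_of_mul_eq_one c12.1
  obtain ⟨p, p1, p2, p3⟩ := hex 0 0 1
  obtain ⟨q1, q2⟩ := hm' p
  simp [p1, p2, p3, hα12] at q1 q2
  obtain ⟨p', p1', p2', p3'⟩ := hex 1 0 0
  obtain ⟨q3, -⟩ := hm' p'
  simp [p1', p2', p3', q1, q2, hα01] at q3
  exact hne (by rw [hm]; simp [q1, q2, q3])

/-- The pairs form a space of dimension at most two. -/
theorem finrank_le_two [Infinite k] : finrank k S ≤ 2 := by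
  by_cases hsmall : ∃ e₁ e₂ : (Fin 3 → k), ∀ a, μ a a ∈ Submodule.span k {e₁, e₂}
  · obtain ⟨e₁, e₂, hq⟩ := hsmall
    exact finrank_le_two_of_small hμ hS hinj hq
  push Not at hsmall
  obtain ⟨A, hAi, hqi⟩ := exists_basis_squares hsmall
  exact finrank_le_two_of_basis hμ hS hinj A hAi hqi

end Cfsg.Lib.Block.Five
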