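import Cfsg.Agent.Lib.Block.FiveChars.Forms
import Cfsg.Agent.Lib.Block.FiveChars.Ternary

/-!
# Three generators

A local symmetric algebra with three generators whose square is spanned by their commutators
modulo the cube has Loewy length at most four.
-/

set_option autoImplicit false
set_option linter.unusedSectionVars false
set_option maxHeartbeats 1000000

namespace Cfsg.Lib.Block.Five

open Cfsg Module Matrix

variable {k : Type*} [Field k] {R : Type*} [Ring R] [Algebra k R]

/-- A pairing of rank at most two. -/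
def RankTwo (t : R →ₗ[k] k) (X Y : Submodule k R) : Prop :=
  ∃ x₁ ∈ X, ∃ x₂ ∈ X, ∀ y ∈ Y, t (x₁ * y) = 0 → t (x₂ * y) = 0 → ∀ x ∈ X, t (x * y) = 0

/-- The commutators of three elements. -/
def crossComm (x : Fin 3 → R) : Fin 3 → R :=
  ![x 1 * x 2 - x 2 * x 1, x 2 * x 0 - x 0 * x 2, x 0 * x 1 - x 1 * x 0]

theorem comm_genMap (x : Fin 3 → R) (a b : Fin 3 → k) :
    genMap x a * genMap x b - genMap x b * genMap x a =
      genMap (crossComm x) (crossProduct a b) := by
  simp [genMap, Fintype.linearCombination_apply, Fin.sum_univ_three, crossComm, cross_apply,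
    add_mul, mul_add, smul_sub, sub_smul, smul_smul]
  module

theorem crossComm_mem {C : Submodule k R} (x : Fin 3 → R)
    (hC : ∀ i, crossComm x i ∈ C) : ∀ i j, x i * x j - x j * x i ∈ C := by
  intro i j
  have e : ∀ i, x i = genMap x (Pi.single i (1 : k)) := fun i => by
    simp [genMap, Fintype.linearCombination_apply_single]
  rw [e i, e j, comm_genMap]
  exact genMap_mem hC _

variable [FiniteDimensional k R] {t : R →ₗ[k] k} {J : Submodule k R} {L : ℕ}

/-- Three generators whose square is spanned by commutators modulo the cube. -/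
theorem not_three_gen [Infinite k] (h : SymLocal t J L) (hL : 4 ≤ L) (x : Fin 3 → R)
    (hx : ∀ i, x i ∈ J) (hgen : J ≤ Submodule.span k (Set.range x) ⊔ J ^ 2)
    (hind : ∀ α : Fin 3 → k, (∑ i, α i • x i) ∈ J ^ 2 → α = 0)
    (hJ2 : J ^ 2 ≤ Submodule.span k (Set.range (crossComm x)) ⊔ J ^ 3)
    (h3 : J ^ 3 ≤ commSpan J ⊔ J ^ L) : False := by
  obtain ⟨q, rfl⟩ : ∃ q, L = q + 4 := ⟨L - 4, by omega⟩
  set c := crossComm x with hc
  have hc2 : ∀ i, c i ∈ J ^ 2 := by
    have : ∀ i j, x i * x j - x j * x i ∈ J ^ 2 := fun i j => by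
      rw [pow_two]
      exact sub_mem (Submodule.mul_mem_mul (hx i) (hx j)) (Submodule.mul_mem_mul (hx j) (hx i))
    intro i
    fin_cases i <;> exact this _ _
  -- the subspace orthogonal to a power
  let N : Submodule k R :=
    { carrier := {z | ∀ w ∈ J ^ (q + 2), t (z * w) = 0}
      add_mem' := fun ha hb w hw => by rw [add_mul, map_add, ha w hw, hb w hw, add_zero]
      zero_mem' := fun w _ => by rw [zero_mul, map_zero]
      smul_mem' := fun s z hz w hw => by rw [smul_mul_assoc, map_smul, hz w hw, smul_zero] }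
  have hN3 : J ^ 3 ≤ N := fun z hz w hw => h.t_eq_zero (mul_mem_pow hz hw) (by omega)
  have htop : ¬ J ^ 2 ≤ N := by
    intro hle
    obtain ⟨y, hy, z, hz, hyz⟩ := h.exists_pair_ne (by omega) (show 2 + (q + 2) = q + 4 by omega)
    exact hyz (hle hy z hz)
  -- no pairing has rank one
  have notOne : ∀ i j, 1 ≤ i → 1 ≤ j → i + j = q + 4 → ¬ RankOne t (J ^ i) (J ^ j) := by
    intro i j hi hj hij hr
    refine htop (hJ2.trans (sup_le (Submodule.span_le.2 ?_) hN3))
    have hsw := h.swap_of_rankOne (j := q + 2) (by omega)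
      (show RankOne t (J ^ 1) (J ^ (q + 2 + 1)) from h.rankOne_one hi hj hij hr)
    rintro _ ⟨i, rfl⟩
    have : ∀ i j, x i * x j - x j * x i ∈ N := fun i j w hw => by
      rw [sub_mul, map_sub, hsw _ (hx i) _ (hx j) w hw, sub_self]
    fin_cases i <;> exact this _ _
  -- an element orthogonal to the next to top power lies in the square
  have hfull : ∀ a ∈ J, (∀ y ∈ J ^ (q + 3), t (a * y) = 0) → a ∈ J ^ 2 := by
    intro a ha horth
    obtain ⟨u, hu, r, hr, rfl⟩ := Submodule.mem_sup.1 (hgen ha)
    obtain ⟨α, rfl⟩ := (Submodule.mem_span_range_iff_exists_fun k).1 hu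
    by_contra hout
    obtain ⟨i₀, hi₀⟩ : ∃ i, α i ≠ 0 := by
      by_contra! hall
      exact hout (by simpa [hall] using hr)
    have hN : ∀ δ : Fin 3 → k, genMap c (crossProduct α δ) ∈ N := by
      intro δ
      rw [hc, ← comm_genMap, genMap, Fintype.linearCombination_apply k x α]
      set d := Fintype.linearCombination k x δ
      have hd : d ∈ J := genMap_mem hx δ
      have hrd : r * d - d * r ∈ N :=
        hN3 (sub_mem (mul_mem_pow (j := 1) hr (mem_pow_one.2 hd))
          (mul_mem_pow (i := 1) (mem_pow_one.2 hd) hr))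
      have h1 : (∑ i, α i • x i + r) * d - d * (∑ i, α i • x i + r) ∈ N := fun w hw => by
        rw [sub_mul, map_sub, mul_assoc, horth _ (by
          rw [show q + 3 = (q + 2) + 1 by omega, pow_succ']
          exact Submodule.mul_mem_mul hd hw), zero_sub, mul_assoc d, h.cyc, mul_assoc,
          horth _ (by
            rw [show q + 3 = (q + 2) + 1 by omega, pow_succ]
            exact Submodule.mul_mem_mul hw hd), neg_zero]
      convert sub_mem h1 hrd using 1
      simp only [add_mul, mul_add]
      abel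
    have hline : ∀ i, c i ∈ (k ∙ c i₀) ⊔ N := by
      intro i
      have e : crossProduct α (crossProduct (Pi.single i (1 : k)) (Pi.single i₀ (1 : k))) =
          α i₀ • Pi.single i (1 : k) - α i • Pi.single i₀ (1 : k) := by
        funext j
        fin_cases i <;> fin_cases i₀ <;> fin_cases j <;> simp [cross_apply]
      have h1 := hN (crossProduct (Pi.single i (1 : k)) (Pi.single i₀ (1 : k)))
      rw [e, map_sub, map_smul, map_smul] at h1
      simp only [genMap, Fintype.linearCombination_apply_single, one_smul] at h1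
      have h2 : α i₀ • c i ∈ (k ∙ c i₀) ⊔ N := by
        rw [← add_sub_cancel (α i • c i₀) (α i₀ • c i)]
        exact Submodule.add_mem_sup (Submodule.smul_mem _ _ (Submodule.mem_span_singleton_self _)) h1
      simpa [smul_smul, inv_mul_cancel₀ hi₀] using Submodule.smul_mem _ (α i₀)⁻¹ h2
    have hle : J ^ 2 ≤ (k ∙ c i₀) ⊔ N := hJ2.trans
      (sup_le (Submodule.span_le.2 (by rintro _ ⟨i, rfl⟩; exact hline i)) (hN3.trans le_sup_right))
    refine notOne (q + 2) 2 (by omega) (by omega) (by omega) ⟨fun w => t (c i₀ * w), fun y hy => ?_⟩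
    obtain ⟨u, hu, v, hv, rfl⟩ := Submodule.mem_sup.1 (hle hy)
    obtain ⟨s, rfl⟩ := Submodule.mem_span_singleton.1 hu
    refine ⟨s, fun z hz => ?_⟩
    rw [h.cyc, add_mul, map_add, hv z hz, smul_mul_assoc, map_smul, add_zero, smul_eq_mul]
  -- common kernels
  have hker : ∀ f g : R →ₗ[k] k, ∃ a ∈ J, a ∉ J ^ 2 ∧ f a = 0 ∧ g a = 0 := by
    intro f g
    set T := (f.prod g).comp (genMap (k := k) x) with hT
    have : LinearMap.ker T ≠ ⊥ := by
      intro hbot
      have := LinearMap.finrank_le_finrank_of_injective (LinearMap.ker_eq_bot.1 hbot)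
      simp at this
    obtain ⟨α, hα, hα0⟩ := Submodule.exists_mem_ne_zero_of_ne_bot this
    have h1 : f (genMap x α) = 0 ∧ g (genMap x α) = 0 := Prod.mk_eq_zero.1 (LinearMap.mem_ker.1 hα)
    refine ⟨genMap x α, genMap_mem hx α, fun hin => hα0 (hind α ?_), h1⟩
    rwa [genMap, Fintype.linearCombination_apply] at hin
  -- no pairing has rank two
  have notTwo : ∀ i j, i + 1 + (j + 1) = q + 4 → ¬ RankTwo t (J ^ (i + 1)) (J ^ (j + 1)) := by
    intro i j hij ⟨z₁, hz₁, z₂, hz₂, hz⟩
    set η : R → k × k := fun y => (t (z₁ * y), t (z₂ * y)) with hη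
    let det : R → R → k := fun y y' => t (z₁ * y) * t (z₂ * y') - t (z₁ * y') * t (z₂ * y)
    have hwa : ∀ {w a : R}, w ∈ J ^ j → a ∈ J → w * a ∈ J ^ (j + 1) := fun hw ha => by
      rw [pow_succ]; exact Submodule.mul_mem_mul hw ha
    -- each map has rank at most one
    have hone : ∀ w ∈ J ^ j, ∀ a ∈ J, ∀ a' ∈ J, det (w * a) (w * a') = 0 := by
      intro w hw a ha a' ha'
      by_contra hD
      obtain ⟨d, hd, hd2, hd₁, hd₂⟩ := hker
        (t.comp ((LinearMap.mulLeft k z₁).comp (LinearMap.mulRight k w)))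
        (t.comp ((LinearMap.mulLeft k z₂).comp (LinearMap.mulRight k w)))
      simp only [LinearMap.comp_apply, LinearMap.mulLeft_apply, LinearMap.mulRight_apply] at hd₁ hd₂
      have hdw : ∀ z ∈ J ^ (i + 1), t (z * (d * w)) = 0 :=
        hz _ (by rw [pow_succ']; exact Submodule.mul_mem_mul hd hw) hd₁ hd₂
      refine hd2 (hfull d hd fun y hy => ?_)
      rw [show q + 3 = (j + 1) + i by omega, pow_add] at hy
      refine Submodule.mul_induction_on hy (fun v hv z hzi => ?_) fun p p' hp hp' => by
        rw [mul_add, map_add, hp, hp', add_zero]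
      have hzd : z * d ∈ J ^ (i + 1) := by rw [pow_succ]; exact Submodule.mul_mem_mul hzi hd
      set s := (t (z₁ * v) * t (z₂ * (w * a')) - t (z₁ * (w * a')) * t (z₂ * v)) / det (w * a) (w * a')
        with hs
      set s' := (t (z₁ * (w * a)) * t (z₂ * v) - t (z₁ * v) * t (z₂ * (w * a))) / det (w * a) (w * a')
        with hs'
      have h0 := hz (v - (s • (w * a) + s' • (w * a')))
        (sub_mem hv (add_mem (Submodule.smul_mem _ _ (hwa hw ha)) (Submodule.smul_mem _ _ (hwa hw ha'))))
        (by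
          simp only [mul_sub, mul_add, mul_smul_comm, map_sub, map_add, map_smul, smul_eq_mul, hs, hs']
          rw [div_mul_eq_mul_div, div_mul_eq_mul_div, ← add_div, sub_eq_zero, eq_div_iff hD]
          simp only [det]; ring)
        (by
          simp only [mul_sub, mul_add, mul_smul_comm, map_sub, map_add, map_smul, smul_eq_mul, hs, hs']
          rw [div_mul_eq_mul_div, div_mul_eq_mul_div, ← add_div, sub_eq_zero, eq_div_iff hD]
          simp only [det]; ring)
        (z * d) hzd
      have hk : ∀ b ∈ J, t (z * d * (w * b)) = 0 := fun b hb => by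
        rw [← mul_assoc, h.cyc, mul_assoc z d w, ← mul_assoc b]
        exact hdw _ (by rw [pow_succ']; exact Submodule.mul_mem_mul hb hzi)
      rw [mul_sub, mul_add, mul_smul_comm, mul_smul_comm, map_sub, map_add, map_smul, map_smul,
        hk a ha, hk a' ha', smul_zero, smul_zero, add_zero, sub_zero] at h0
      rwa [← mul_assoc, h.cyc, ← mul_assoc]
    -- some value is not zero
    obtain ⟨w₀, hw₀, a₀, ha₀, hne⟩ : ∃ w ∈ J ^ j, ∃ a ∈ J,
        t (z₁ * (w * a)) ≠ 0 ∨ t (z₂ * (w * a)) ≠ 0 := by
      by_contra! hc'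
      obtain ⟨u, hu, y, hy, huy⟩ := h.exists_pair_ne (by omega) hij
      refine huy ?_
      rw [pow_succ] at hy
      exact Submodule.mul_induction_on hy (fun w hw a ha =>
        hz _ (hwa hw ha) (hc' w hw a ha).1 (hc' w hw a ha).2 u hu) fun p p' hp hp' => by
          rw [mul_add, map_add, hp, hp', add_zero]
    by_cases hall : ∀ w ∈ J ^ j, ∀ a ∈ J, det (w₀ * a₀) (w * a) = 0
    · -- common image
      refine notOne (i + 1) (j + 1) (by omega) (by omega) hij
        ⟨fun z => t (z * (w₀ * a₀)), fun y hy => ?_⟩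
      have hdy : det (w₀ * a₀) y = 0 := by
        rw [pow_succ] at hy
        refine Submodule.mul_induction_on hy hall fun p p' hp hp' => ?_
        simp only [det] at hp hp' ⊢
        simp only [mul_add, map_add]
        linear_combination hp + hp'
      simp only [det] at hdy
      obtain ⟨s, hs₁, hs₂⟩ : ∃ s, t (z₁ * y) = s * t (z₁ * (w₀ * a₀)) ∧
          t (z₂ * y) = s * t (z₂ * (w₀ * a₀)) := by
        rcases hne with h' | h'
        · exact ⟨t (z₁ * y) / t (z₁ * (w₀ * a₀)), by field_simp, by
            field_simp; linear_combination hdy⟩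
        · exact ⟨t (z₂ * y) / t (z₂ * (w₀ * a₀)), by
            field_simp; linear_combination -hdy, by field_simp⟩
      refine ⟨s, fun z hz' => ?_⟩
      have h0 := hz (y - s • (w₀ * a₀)) (sub_mem hy (Submodule.smul_mem _ _ (hwa hw₀ ha₀)))
        (by simp [mul_sub, hs₁]) (by simp [mul_sub, hs₂]) z hz'
      rw [mul_sub, map_sub, mul_smul_comm, map_smul, sub_eq_zero] at h0
      exact h0
    · -- common kernel
      push Not at hall
      obtain ⟨w₁, hw₁, a₁, ha₁, hD⟩ := hall
      obtain ⟨a, ha, ha2, ha₁', ha₂'⟩ := hker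
        (t.comp (LinearMap.mulLeft k (z₁ * w₀))) (t.comp (LinearMap.mulLeft k (z₂ * w₀)))
      simp only [LinearMap.comp_apply, LinearMap.mulLeft_apply, mul_assoc] at ha₁' ha₂'
      have s₀ := hone _ (add_mem hw₀ hw₁) a₀ ha₀ a₁ ha₁
      have s₁ := hone w₀ hw₀ a₀ ha₀ a₁ ha₁
      have s₂ := hone w₁ hw₁ a₀ ha₀ a₁ ha₁
      simp only [det, add_mul, mul_add, map_add] at hD s₀ s₁ s₂
      set e := t (z₁ * (w₀ * a₀)) with he
      set e' := t (z₂ * (w₀ * a₀)) with he'
      set f := t (z₁ * (w₁ * a₁)) with hf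
      set f' := t (z₂ * (w₁ * a₁)) with hf'
      set g := t (z₁ * (w₁ * a₀)) with hg
      set g' := t (z₂ * (w₁ * a₀)) with hg'
      have hgD : e * g' - g * e' ≠ 0 := by
        intro h0
        have hg0 : g * (e * f' - f * e') = 0 := by linear_combination e * s₂ + f * h0
        have hg0' : g' * (e * f' - f * e') = 0 := by linear_combination e' * s₂ + f' * h0
        have g1 : g = 0 := (mul_eq_zero.1 hg0).resolve_right hD
        have g2 : g' = 0 := (mul_eq_zero.1 hg0').resolve_right hD
        refine hD ?_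
        rw [g1, g2] at s₀
        linear_combination s₀ - s₁
      refine ha2 (hfull a ha fun y hy => ?_)
      rw [show q + 3 = (i + 1) + j by omega, pow_add] at hy
      refine Submodule.mul_induction_on hy (fun z hz' w hw => ?_) fun p p' hp hp' => by
        rw [mul_add, map_add, hp, hp', add_zero]
      rw [h.cyc, mul_assoc]
      -- parallel to the first
      have toE : ∀ w ∈ J ^ j, t (z₁ * (w * a)) * e' - e * t (z₂ * (w * a)) = 0 := by
        intro w hw
        have u₁ := hone w hw a ha a₀ ha₀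
        have u₂ := hone _ (add_mem hw hw₀) a ha a₀ ha₀
        simp only [det, add_mul, mul_add, map_add, ha₁', ha₂', add_zero, ← he, ← he'] at u₁ u₂
        linear_combination u₂ - u₁
      have a₁₁ : t (z₁ * (w₁ * a)) = 0 ∧ t (z₂ * (w₁ * a)) = 0 := by
        have u := hone w₁ hw₁ a ha a₁ ha₁
        simp only [det, ← hf, ← hf'] at u
        have u' := toE w₁ hw₁
        constructor
        · refine (mul_eq_zero.1 (show t (z₁ * (w₁ * a)) * (e * f' - f * e') = 0 by
            linear_combination e * u - f * u')).resolve_right hD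
        · refine (mul_eq_zero.1 (show t (z₂ * (w₁ * a)) * (e * f' - f * e') = 0 by
            linear_combination e' * u - f' * u')).resolve_right hD
      have toG : t (z₁ * (w * a)) * g' - g * t (z₂ * (w * a)) = 0 := by
        have u₁ := hone w hw a ha a₀ ha₀
        have u₂ := hone _ (add_mem hw hw₁) a ha a₀ ha₀
        simp only [det, add_mul, mul_add, map_add, a₁₁.1, a₁₁.2, add_zero, ← hg, ← hg'] at u₁ u₂
        linear_combination u₂ - u₁
      have u := toE w hw
      refine hz _ (hwa hw ha) ?_ ?_ z hz'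
      · refine (mul_eq_zero.1 (show t (z₁ * (w * a)) * (e * g' - g * e') = 0 by
          linear_combination e * toG - g * u)).resolve_right hgD
      · refine (mul_eq_zero.1 (show t (z₂ * (w * a)) * (e * g' - g * e') = 0 by
          linear_combination e' * toG - g' * u)).resolve_right hgD
  -- the commutators are independent modulo the cube
  have hcind : ∀ α : Fin 3 → k, (∑ i, α i • c i) ∈ J ^ 3 → α = 0 := by
    intro α hα
    by_contra hne
    obtain ⟨i₀, hi₀⟩ := Function.ne_iff.1 hne
    rw [Pi.zero_apply] at hi₀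
    obtain ⟨l, m, hlm⟩ : ∃ l m, ∀ i : Fin 3, i = i₀ ∨ i = l ∨ i = m := by
      refine ⟨i₀ + 1, i₀ + 2, ?_⟩
      fin_cases i₀ <;> decide
    set S := Submodule.span k {c l, c m} ⊔ J ^ 3 with hS
    have hcS : ∀ i, i ≠ i₀ → c i ∈ S := fun i hi => Submodule.mem_sup_left
      (Submodule.subset_span (by
        rcases hlm i with rfl | rfl | rfl
        · exact absurd rfl hi
        · exact Set.mem_insert _ _
        · exact Set.mem_insert_of_mem _ rfl))
    have hi0S : c i₀ ∈ S := by
      have h1 : α i₀ • c i₀ ∈ S := by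
        rw [← Finset.add_sum_erase _ _ (Finset.mem_univ i₀)] at hα
        have h2 : ∑ i ∈ Finset.univ.erase i₀, α i • c i ∈ S :=
          Submodule.sum_mem _ fun i hi => S.smul_mem _ (hcS i (Finset.ne_of_mem_erase hi))
        simpa using sub_mem (Submodule.mem_sup_right hα : _ ∈ S) h2
      simpa [smul_smul, inv_mul_cancel₀ hi₀] using S.smul_mem (α i₀)⁻¹ h1
    have hle : J ^ 2 ≤ S := hJ2.trans (sup_le (Submodule.span_le.2 (by
      rintro _ ⟨i, rfl⟩
      rcases eq_or_ne i i₀ with rfl | hi
      · exact hi0S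
      · exact hcS i hi)) le_sup_right)
    refine notTwo 1 (q + 1) (by omega) ⟨c l, hc2 l, c m, hc2 m, fun y hy y1 y2 z hz => ?_⟩
    obtain ⟨u, hu, v, hv, rfl⟩ := Submodule.mem_sup.1 (hle hz)
    obtain ⟨r, s, rfl⟩ := Submodule.mem_span_pair.1 hu
    rw [add_mul, add_mul, map_add, map_add, smul_mul_assoc, smul_mul_assoc, map_smul, map_smul,
      y1, y2, smul_zero, smul_zero, add_zero, zero_add, h.t_eq_zero (mul_mem_pow hv hy) (by omega)]
  obtain ⟨π, hπ, hπ0⟩ := exists_coord (J ^ 3) hcind
  have F : Frame t J (q + 4) x c π := by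
    refine ⟨h, hL, hx, hc2, hgen, hJ2, hπ, hπ0, h3, fun κ hκ hκ3 => ?_⟩
    obtain ⟨u, hu, v, hv, rfl⟩ := Submodule.mem_sup.1 ((h.commSpan_le hx hgen
      (crossComm_mem x fun i => Submodule.subset_span (Set.mem_range_self i))) hκ)
    obtain ⟨α, rfl⟩ := (Submodule.mem_span_range_iff_exists_fun k).1 hu
    have hα := hcind α ((Submodule.add_mem_iff_left _ (h.commTwo_le hv)).1 hκ3)
    simpa [hα] using hv
  have hμ : ∀ a b, prodCoord π x a b - prodCoord π x b a = crossProduct a b := fun a b => by
    rw [prodCoord_apply, prodCoord_apply, ← map_sub, comm_genMap, hπ]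
  have hdim : finrank k ((J ^ (q + 1)).map (formPair t x c)) ≤ 2 := by
    refine finrank_le_two hμ ?_ ?_
    · rintro _ ⟨w, hw, rfl⟩ a b d
      exact F.formPair_eq (by omega) hw a b d
    · rintro _ ⟨w, hw, rfl⟩ huv
      have h0 := F.orth_cube (by omega) hw huv
      refine Prod.ext (LinearMap.ext fun a => funext fun i => ?_)
        (LinearMap.ext fun a => funext fun i => ?_)
      · exact h0 _ (mul_mem_pow (j := 1) (hc2 i) (mem_pow_one.2 (genMap_mem hx a)))
      · exact h0 _ (mul_mem_pow (i := 1) (mem_pow_one.2 (genMap_mem hx a)) (hc2 i))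
  obtain ⟨w₁, hw₁, w₂, hw₂, hw⟩ := F.exists_two (by omega) hdim
  refine notTwo q 2 (by omega) ⟨w₁, hw₁, w₂, hw₂, fun y hy y1 y2 z hz => ?_⟩
  obtain ⟨s₁, s₂, hs⟩ := hw z hz
  rw [h.cyc, hs y hy, h.cyc y, y1, h.cyc y, y2, mul_zero, mul_zero, add_zero]

end Cfsg.Lib.Block.Five
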